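import Mathlib
import Cfsg.Agent.OddOrderCharacters.IndRes
import Cfsg.Agent.OddOrderCharacters.VChar
import Cfsg.Agent.Characters.Central
import Cfsg.Agent.SmallSimple.NormThree

/-!
# Exceptional characters: induction of class functions supported on a set with controlled fusion

* `classInner_ind_ind`: if every element `y` of the support of `α` satisfies
  `y ^ g ∈ H → g ∈ H`, then induction preserves the inner product with `α`.
* `bessel`: the inequality of Bessel for generalized characters.
* `apply_eq_of_class_sum`: if `1 + A - B` vanishes at `1`, at `t` and at the products of two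
  conjugates of `t`, then `A t = A 1`.
-/

set_option autoImplicit false

open Cfsg

namespace Cfsg.Agent.H431.ExcChar

open Cfsg.Agent.Characters.Core Cfsg.Agent.Characters.Central

open scoped ComplexConjugate

variable {G : Type*} [Group G] [Fintype G]

/-- the value of an induced class function -/
theorem indFun_eq_of_fus (H : Subgroup G) {β : H → ℂ} (hβ : IsClassFunction H β) {y : H}
    (hy : ∀ g : G, g * y * g⁻¹ ∈ H → g ∈ H) : indFun H β y = β y := by
  classical
  rw [indFun_apply]
  have h1 : ∀ x : G, extendByZero H β (x⁻¹ * (y : G) * x) = if x ∈ H then β y else 0 := by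
    intro x
    by_cases hx : x ∈ H
    · rw [if_pos hx]
      have h2 : x⁻¹ * (y : G) * x ∈ H := mul_mem (mul_mem (inv_mem hx) y.2) hx
      rw [extendByZero_of_mem H β h2]
      have h3 := hβ y (⟨x, hx⟩ : H)⁻¹
      rw [← h3]
      congr 1
      apply Subtype.ext
      simp
    · rw [if_neg hx]
      apply extendByZero_of_notMem
      intro h2
      apply hx
      have h3 := hy x⁻¹ (by rw [inv_inv]; exact h2)
      exact (inv_mem_iff (x := x)).1 h3
  simp_rw [h1]
  rw [Finset.sum_ite, Finset.sum_const_zero, add_zero, Finset.sum_const, nsmul_eq_mul]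
  have h4 : (Finset.univ.filter (fun x : G => x ∈ H)).card = Nat.card H := by
    rw [Nat.card_eq_fintype_card, Fintype.card_subtype]
  rw [h4]
  have h5 : (Nat.card H : ℂ) ≠ 0 := card_ne_zero_complex
  field_simp

/-- the isometry -/
theorem classInner_ind_ind (H : Subgroup G) [Fintype H] {α β : H → ℂ} (hβ : IsClassFunction H β)
    (hα : ∀ y : H, α y ≠ 0 → ∀ g : G, g * y * g⁻¹ ∈ H → g ∈ H) :
    classInner (indFun H α) (indFun H β) = classInner α β := by
  have h1 : IsClassFunction G (indFun H β) := OddOrderCharacters.IndRes.isClassFunction_indFun H β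
  rw [Cfsg.Agent.S0150.classInner_indFun H α _ h1, classInner_def, classInner_def]
  congr 1
  refine Finset.sum_congr rfl fun y _ => ?_
  by_cases hy : α y = 0
  · rw [hy, zero_mul, zero_mul]
  · rw [indFun_eq_of_fus H hβ (hα y hy)]

/-- Bessel's inequality for generalized characters -/
theorem bessel {Y : G → ℂ} (hY : IsGeneralizedCharacter G Y) {n : ℤ} (hn : classInner Y Y = n)
    {ι : Type*} [Fintype ι] (f : ι → G → ℂ) (hf : ∀ i, IsIrrCharacter G (f i))
    (hinj : Function.Injective f) :
    ∃ m : ι → ℤ, (∀ i, classInner Y (f i) = m i) ∧ ∑ i, m i ^ 2 ≤ n := by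
  classical
  have := finite_irr (G := G)
  have := Fintype.ofFinite (IrrCharacter G)
  obtain ⟨m, hm⟩ := isGeneralizedCharacter_iff.1 hY
  refine ⟨fun i => m ⟨f i, hf i⟩, fun i => ?_, ?_⟩
  · have h := classInner_sum_zsmul_irr m ⟨f i, hf i⟩
    rw [← hm] at h
    exact h
  · have h2 : ((∑ χ, m χ * m χ : ℤ) : ℂ) = n := by
      rw [← hn, hm]
      rw [classInner_sum_right]
      push_cast
      refine Finset.sum_congr rfl fun χ _ => ?_
      have h := classInner_sum_zsmul_irr m χ
      have h3 : (m χ • (χ : G → ℂ)) = ((m χ : ℂ)) • (χ : G → ℂ) := by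
        funext x; simp [zsmul_eq_mul]
      rw [h3, classInner_smul_right, h]
      simp
    have h3 : (∑ χ, m χ * m χ : ℤ) = n := by exact_mod_cast h2
    rw [← h3]
    have h4 : Function.Injective (fun i => (⟨f i, hf i⟩ : IrrCharacter G)) := by
      intro i j hij
      exact hinj (congrArg Subtype.val hij)
    calc ∑ i, m ⟨f i, hf i⟩ ^ 2 = ∑ χ ∈ Finset.univ.image (fun i => (⟨f i, hf i⟩ : IrrCharacter G)), m χ ^ 2 := by
          rw [Finset.sum_image (fun i _ j _ hij => h4 hij)]
      _ ≤ ∑ χ, m χ ^ 2 := Finset.sum_le_sum_of_subset_of_nonneg (Finset.subset_univ _)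
          (fun _ _ _ => sq_nonneg _)
      _ = ∑ χ, m χ * m χ := Finset.sum_congr rfl fun χ _ => sq (m χ)

/-- the class sum argument -/
theorem apply_eq_of_class_sum {A B : G → ℂ} (hA : IsIrrCharacter G A) (hB : IsIrrCharacter G B)
    (t : G) (h0 : ∀ a b : G, (1 + A - B) (a * t * a⁻¹ * (b * t * b⁻¹)) = 0)
    (h1 : (1 + A - B) 1 = 0) (ht : (1 + A - B) t = 0) : A t = A 1 := by
  have hG : (Nat.card G : ℂ) ≠ 0 := card_ne_zero_complex
  have hA1 : A 1 ≠ 0 := isIrr_apply_one_ne_zero hA
  have hB1 : B 1 ≠ 0 := isIrr_apply_one_ne_zero hB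
  have key : ∀ {χ : G → ℂ}, IsIrrCharacter G χ →
      ∑ b : G, ∑ a : G, χ (a * t * a⁻¹ * (b * t * b⁻¹)) =
        (Nat.card G : ℂ) * ((Nat.card G : ℂ) * (χ t ^ 2 / χ 1)) := by
    intro χ hχ
    have e2 : ∀ b : G, ∑ a : G, χ (a * t * a⁻¹ * (b * t * b⁻¹)) =
        (Nat.card G : ℂ) * (χ t ^ 2 / χ 1) := by
      intro b
      rw [sum_char_conj_mul hχ, isIrr_isClassFunction hχ t b]
      ring
    simp_rw [e2]
    rw [Finset.sum_const, Finset.card_univ, nsmul_eq_mul, ← Nat.card_eq_fintype_card]
  have hsum : ∑ b : G, ∑ a : G, (1 + A - B) (a * t * a⁻¹ * (b * t * b⁻¹)) = 0 :=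
    Finset.sum_eq_zero fun b _ => Finset.sum_eq_zero fun a _ => h0 a b
  have hexp : ∑ b : G, ∑ a : G, (1 + A - B) (a * t * a⁻¹ * (b * t * b⁻¹)) =
      ∑ b : G, ∑ a : G, (1 : G → ℂ) (a * t * a⁻¹ * (b * t * b⁻¹)) +
      ∑ b : G, ∑ a : G, A (a * t * a⁻¹ * (b * t * b⁻¹)) -
      ∑ b : G, ∑ a : G, B (a * t * a⁻¹ * (b * t * b⁻¹)) := by
    simp only [Pi.add_apply, Pi.sub_apply, Finset.sum_add_distrib, Finset.sum_sub_distrib]
  rw [hexp, key isIrr_one, key hA, key hB] at hsum
  have h2 : 1 + A t ^ 2 / A 1 - B t ^ 2 / B 1 = 0 := by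
    have h3 : (Nat.card G : ℂ) * ((Nat.card G : ℂ) * (1 + A t ^ 2 / A 1 - B t ^ 2 / B 1)) = 0 := by
      rw [← hsum]
      simp only [Pi.one_apply]
      ring
    rcases mul_eq_zero.1 h3 with h | h
    · exact absurd h hG
    · rcases mul_eq_zero.1 h with h | h
      · exact absurd h hG
      · exact h
  have h3 : B 1 = 1 + A 1 := by
    simp only [Pi.add_apply, Pi.sub_apply, Pi.one_apply] at h1
    linear_combination -h1
  have h4 : B t = 1 + A t := by
    simp only [Pi.add_apply, Pi.sub_apply, Pi.one_apply] at ht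
    linear_combination -ht
  rw [h4] at h2
  field_simp at h2
  rw [h3] at h2
  have h5 : (A t - A 1) ^ 2 = 0 := by linear_combination h2
  have h6 : A t - A 1 = 0 := pow_eq_zero_iff (two_ne_zero) |>.1 h5
  linear_combination h6

end Cfsg.Agent.H431.ExcChar
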