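import Mathlib
import Cfsg.Agent.H431.AltCl

/-!
# The six exceptional characters of `3^3 : S_4`
-/

set_option autoImplicit false

open Cfsg

namespace Cfsg.Agent.H431.Alt

open Cfsg.Agent.Characters.Core Cfsg.Agent.OddOrderCharacters.VChar
open Cfsg.Agent.H431.ExcChar Cfsg.Agent.OddOrderCharacters.IndRes

open scoped ComplexConjugate

open Complex

/-- a primitive cube root of unity -/
noncomputable def om : ℂ := ZMod.stdAddChar (1 : ZMod 3)

theorem om_sum : 1 + om + om ^ 2 = 0 := by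
  have h := sum_std
  have e : ∑ r : ZMod 3, (ZMod.stdAddChar r : ℂ) = ZMod.stdAddChar (0 : ZMod 3) +
      ZMod.stdAddChar (1 : ZMod 3) + ZMod.stdAddChar (1 + 1 : ZMod 3) := by
    exact Fin.sum_univ_three (fun r : ZMod 3 => (ZMod.stdAddChar r : ℂ))
  rw [e, AddChar.map_zero_eq_one, AddChar.map_add_eq_mul] at h
  rw [om]
  linear_combination h

theorem om_cube : om ^ 3 = 1 := by
  linear_combination (om - 1) * om_sum

theorem om_ne_one : om ≠ 1 := by
  intro h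
  have := om_sum
  rw [h] at this
  norm_num at this

theorem om_ne_zero : om ≠ 0 := by
  intro h
  have := om_sum
  rw [h] at this
  norm_num at this

theorem conj_om : conj om = om ^ 2 := by
  have h1 : conj om = ZMod.stdAddChar (-1 : ZMod 3) := by
    rw [om, AddChar.map_neg_eq_conj]
  rw [h1, om]
  have : (-1 : ZMod 3) = 1 + 1 := by decide
  rw [this, AddChar.map_add_eq_mul, sq]

/-- the values of the linear characters -/
noncomputable def vA : Fin 4 → ℂ := ![1, I, -1, -I]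
noncomputable def vA' : Fin 4 → ℂ := ![1, -I, -1, I]
noncomputable def vP : Fin 4 → ℂ := ![1, 1, 1, 1]
noncomputable def vF : Fin 3 → ℂ := ![1, om, om ^ 2]
noncomputable def vF' : Fin 3 → ℂ := ![1, om ^ 2, om]
noncomputable def vG : Fin 2 → ℂ := ![1, 1]

theorem cU_inj : Function.Injective cU := by decide +kernel
theorem cU_zero : cU 0 = 1 := by decide +kernel
theorem cU_add : ∀ i j, cU (i + j) = cU i * cU j := by decide +kernel
theorem cU_fix : ∀ i, cU i • lU = lU := by decide +kernel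
theorem lU_ne : lU ≠ 0 := by decide +kernel
theorem cV_inj : Function.Injective cV := by decide +kernel
theorem cV_zero : cV 0 = 1 := by decide +kernel
theorem cV_add : ∀ i j, cV (i + j) = cV i * cV j := by decide +kernel
theorem cV_fix : ∀ i, cV i • lV = lV := by decide +kernel
theorem lV_ne : lV ≠ 0 := by decide +kernel
theorem cT_inj : Function.Injective cT := by decide +kernel
theorem cT_zero : cT 0 = 1 := by decide +kernel
theorem cT_add : ∀ i j, cT (i + j) = cT i * cT j := by decide +kernel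
theorem cT_fix : ∀ i, cT i • lT = lT := by decide +kernel
theorem lT_ne : lT ≠ 0 := by decide +kernel

theorem cycA : Cyc cU lU vA := ⟨cU_inj, cU_zero, cU_add, cU_fix, rfl, by
  intro i j
  have h : I * I = -1 := I_mul_I
  fin_cases i <;> fin_cases j <;> simp [vA, h], lU_ne⟩

theorem cycA' : Cyc cU lU vA' := ⟨cU_inj, cU_zero, cU_add, cU_fix, rfl, by
  intro i j
  have h : I * I = -1 := I_mul_I
  fin_cases i <;> fin_cases j <;> simp [vA', h], lU_ne⟩

theorem cycP : Cyc cU lU vP := ⟨cU_inj, cU_zero, cU_add, cU_fix, rfl, by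
  intro i j
  fin_cases i <;> fin_cases j <;> simp [vP], lU_ne⟩

theorem cycF : Cyc cV lV vF := ⟨cV_inj, cV_zero, cV_add, cV_fix, rfl, by
  intro i j
  have h3 := om_cube
  fin_cases i <;> fin_cases j <;> simp [vF] <;> first | ring1 | linear_combination -h3 |
    linear_combination -om * h3, lV_ne⟩

theorem cycF' : Cyc cV lV vF' := ⟨cV_inj, cV_zero, cV_add, cV_fix, rfl, by
  intro i j
  have h3 := om_cube
  fin_cases i <;> fin_cases j <;> simp [vF'] <;> first | ring1 | linear_combination -h3 |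
    linear_combination -om * h3, lV_ne⟩

theorem cycG : Cyc cT lT vG := ⟨cT_inj, cT_zero, cT_add, cT_fix, rfl, by
  intro i j
  fin_cases i <;> fin_cases j <;> simp [vG], lT_ne⟩

/-! ### supports -/

theorem cU_pow : ∀ k : Fin 4, ∀ u : V3, dt lU u ≠ 0 →
    ((⟨u, cU k⟩ : Md) * ⟨u, cU k⟩ * ⟨u, cU k⟩ * ⟨u, cU k⟩).M = 1 ∧
    ((⟨u, cU k⟩ : Md) * ⟨u, cU k⟩ * ⟨u, cU k⟩ * ⟨u, cU k⟩).u ≠ 0 := by
  decide +kernel

theorem cV_pow : ∀ k : Fin 3, ∀ u : V3, dt lV u ≠ 0 → (cV k = 1 ∧ u ≠ 0) ∨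
    (((⟨u, cV k⟩ : Md) * ⟨u, cV k⟩ * ⟨u, cV k⟩).M = 1 ∧
    ((⟨u, cV k⟩ : Md) * ⟨u, cV k⟩ * ⟨u, cV k⟩).u ≠ 0) := by
  decide +kernel

theorem cT_pow : ∀ k : Fin 2, ∀ u : V3, dt lT u ≠ 0 →
    ((⟨u, cT k⟩ : Md) * ⟨u, cT k⟩).M = 1 ∧
    ((⟨u, cT k⟩ : Md) * ⟨u, cT k⟩).u ≠ 0 := by
  decide +kernel

theorem DD_of {x : Md} (n : ℕ) (h1 : (x ^ n).M = 1) (h2 : (x ^ n).u ≠ 0) : DD x :=
  ⟨n, h1, fun h => h2 (by rw [h]; rfl)⟩

theorem DU (k : Fin 4) (u : V3) (h : dt lU u ≠ 0) : DD ⟨u, cU k⟩ := by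
  obtain ⟨h1, h2⟩ := cU_pow k u h
  have e : (⟨u, cU k⟩ : Md) ^ 4 = ⟨u, cU k⟩ * ⟨u, cU k⟩ * ⟨u, cU k⟩ * ⟨u, cU k⟩ := by
    rw [pow_succ, pow_succ, pow_succ, pow_one]
  exact DD_of 4 (by rw [e]; exact h1) (by rw [e]; exact h2)

theorem DV (k : Fin 3) (u : V3) (h : dt lV u ≠ 0) : DD ⟨u, cV k⟩ := by
  rcases cV_pow k u h with ⟨h1, h2⟩ | ⟨h1, h2⟩
  · exact DD_of 1 (by rw [pow_one]; exact h1) (by rw [pow_one]; exact h2)
  · have e : (⟨u, cV k⟩ : Md) ^ 3 = ⟨u, cV k⟩ * ⟨u, cV k⟩ * ⟨u, cV k⟩ := by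
      rw [pow_succ, pow_succ, pow_one]
    exact DD_of 3 (by rw [e]; exact h1) (by rw [e]; exact h2)

theorem DT (k : Fin 2) (u : V3) (h : dt lT u ≠ 0) : DD ⟨u, cT k⟩ := by
  obtain ⟨h1, h2⟩ := cT_pow k u h
  have e : (⟨u, cT k⟩ : Md) ^ 2 = ⟨u, cT k⟩ * ⟨u, cT k⟩ := by
    rw [pow_succ, pow_one]
  exact DD_of 2 (by rw [e]; exact h1) (by rw [e]; exact h2)

/-! ### the Gram matrix -/

theorem W_UU : ∀ k j, W cU lU cU lU k j =
    ![![28, 0, 0, 0], ![0, 8, 0, 4], ![0, 0, 12, 0], ![0, 4, 0, 8]] k j := by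
  decide +kernel
theorem W_VV : ∀ k j, W cV lV cV lV k j =
    ![![27, 0, 0], ![0, 6, 3], ![0, 3, 6]] k j := by
  decide +kernel
theorem W_TT : ∀ k j, W cT lT cT lT k j = ![![26, 0], ![0, 6]] k j := by
  decide +kernel
theorem W_UV : ∀ k j, W cU lU cV lV k j =
    ![![24, 0, 0], ![0, 0, 0], ![0, 0, 0], ![0, 0, 0]] k j := by
  decide +kernel
theorem W_UT : ∀ k j, W cU lU cT lT k j = ![![24, 0], ![0, 0], ![0, 0], ![0, 0]] k j := by
  decide +kernel
theorem W_VT : ∀ k j, W cV lV cT lT k j = ![![24, 0], ![0, 0], ![0, 0]] k j := by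
  decide +kernel

/-! evaluation of the inner products -/

theorem g_AA : classInner cycA.ch cycA.ch = 3 := by
  rw [cycA.inner_ch cycA]
  simp only [W_UU, Fin.sum_univ_four, vA]
  simp
  norm_num

theorem g_AA2 : classInner cycA.ch cycA'.ch = 2 := by
  rw [cycA.inner_ch cycA']
  simp only [W_UU, Fin.sum_univ_four, vA, vA']
  simp
  norm_num

theorem g_AP : classInner cycA.ch cycP.ch = 1 := by
  rw [cycA.inner_ch cycP]
  simp only [W_UU, Fin.sum_univ_four, vA, vP]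
  simp
  norm_num
  ring

theorem g_AF : classInner cycA.ch cycF.ch = 2 := by
  rw [cycA.inner_ch cycF]
  simp only [W_UV, Fin.sum_univ_four, Fin.sum_univ_three, vA, vF]
  simp
  norm_num

theorem g_AF2 : classInner cycA.ch cycF'.ch = 2 := by
  rw [cycA.inner_ch cycF']
  simp only [W_UV, Fin.sum_univ_four, Fin.sum_univ_three, vA, vF']
  simp
  norm_num

theorem g_AG : classInner cycA.ch cycG.ch = 3 := by
  rw [cycA.inner_ch cycG]
  simp only [W_UT, Fin.sum_univ_four, Fin.sum_univ_two, vA, vG]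
  simp
  norm_num

theorem g_A2A2 : classInner cycA'.ch cycA'.ch = 3 := by
  rw [cycA'.inner_ch cycA']
  simp only [W_UU, Fin.sum_univ_four, vA']
  simp
  norm_num

theorem g_A2P : classInner cycA'.ch cycP.ch = 1 := by
  rw [cycA'.inner_ch cycP]
  simp only [W_UU, Fin.sum_univ_four, vA', vP]
  simp
  norm_num
  ring

theorem g_A2F : classInner cycA'.ch cycF.ch = 2 := by
  rw [cycA'.inner_ch cycF]
  simp only [W_UV, Fin.sum_univ_four, Fin.sum_univ_three, vA', vF]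
  simp
  norm_num

theorem g_A2F2 : classInner cycA'.ch cycF'.ch = 2 := by
  rw [cycA'.inner_ch cycF']
  simp only [W_UV, Fin.sum_univ_four, Fin.sum_univ_three, vA', vF']
  simp
  norm_num

theorem g_A2G : classInner cycA'.ch cycG.ch = 3 := by
  rw [cycA'.inner_ch cycG]
  simp only [W_UT, Fin.sum_univ_four, Fin.sum_univ_two, vA', vG]
  simp
  norm_num

theorem g_PP : classInner cycP.ch cycP.ch = 4 := by
  rw [cycP.inner_ch cycP]
  simp only [W_UU, Fin.sum_univ_four, vP]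
  simp
  norm_num

theorem g_PF : classInner cycP.ch cycF.ch = 2 := by
  rw [cycP.inner_ch cycF]
  simp only [W_UV, Fin.sum_univ_four, Fin.sum_univ_three, vF, vP]
  simp
  norm_num

theorem g_PF2 : classInner cycP.ch cycF'.ch = 2 := by
  rw [cycP.inner_ch cycF']
  simp only [W_UV, Fin.sum_univ_four, Fin.sum_univ_three, vF', vP]
  simp
  norm_num

theorem g_PG : classInner cycP.ch cycG.ch = 3 := by
  rw [cycP.inner_ch cycG]
  simp only [W_UT, Fin.sum_univ_four, Fin.sum_univ_two, vG, vP]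
  simp
  norm_num

theorem g_FF : classInner cycF.ch cycF.ch = 4 := by
  rw [cycF.inner_ch cycF]
  simp only [W_VV, Fin.sum_univ_three, vF]
  simp [conj_om]
  have h3 := om_cube
  have h1 := om_sum
  linear_combination (1 / 9) * (6 + 3 * om ^ 2 + 3 * om + 6 * (om ^ 3 + 1)) * h3 + (1 / 3) * h1

theorem g_FF2 : classInner cycF.ch cycF'.ch = 3 := by
  rw [cycF.inner_ch cycF']
  simp only [W_VV, Fin.sum_univ_three, vF, vF']
  simp [conj_om]
  have h3 := om_cube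
  have h1 := om_sum
  linear_combination (1 / 9) * (6 * om ^ 2 + 3 + 3 * (om ^ 3 + 1) + 6 * om) * h3 + (6 / 9) * h1

theorem g_FG : classInner cycF.ch cycG.ch = 4 := by
  rw [cycF.inner_ch cycG]
  simp only [W_VT, Fin.sum_univ_three, Fin.sum_univ_two, vF, vG]
  simp
  norm_num

theorem g_F2F2 : classInner cycF'.ch cycF'.ch = 4 := by
  rw [cycF'.inner_ch cycF']
  simp only [W_VV, Fin.sum_univ_three, vF']
  simp [conj_om]
  have h3 := om_cube
  have h1 := om_sum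
  linear_combination (1 / 9) * (6 + 3 * om ^ 2 + 3 * om + 6 * (om ^ 3 + 1)) * h3 + (1 / 3) * h1

theorem g_F2G : classInner cycF'.ch cycG.ch = 4 := by
  rw [cycF'.inner_ch cycG]
  simp only [W_VT, Fin.sum_univ_three, Fin.sum_univ_two, vF', vG]
  simp
  norm_num

theorem g_GG : classInner cycG.ch cycG.ch = 8 := by
  rw [cycG.inner_ch cycG]
  simp only [W_TT, Fin.sum_univ_two, vG]
  simp
  norm_num

/-! ### inner products with the trivial character -/

theorem o_A : classInner cycA.ch 1 = 0 := by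
  rw [cycA.inner_ch_one]
  simp only [Fin.sum_univ_four, vA]
  simp

theorem o_A2 : classInner cycA'.ch 1 = 0 := by
  rw [cycA'.inner_ch_one]
  simp only [Fin.sum_univ_four, vA']
  simp

theorem o_P : classInner cycP.ch 1 = 1 := by
  rw [cycP.inner_ch_one]
  simp only [Fin.sum_univ_four, vP]
  simp
  norm_num

theorem o_F : classInner cycF.ch 1 = 0 := by
  rw [cycF.inner_ch_one]
  simp only [Fin.sum_univ_three, vF]
  simp
  have h1 := om_sum
  linear_combination h1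

theorem o_F2 : classInner cycF'.ch 1 = 0 := by
  rw [cycF'.inner_ch_one]
  simp only [Fin.sum_univ_three, vF']
  simp
  have h1 := om_sum
  linear_combination h1

theorem o_G : classInner cycG.ch 1 = 1 := by
  rw [cycG.inner_ch_one]
  simp only [Fin.sum_univ_two, vG]
  simp
  norm_num

/-! ### sums over pairs of involutions -/

theorem N_U : ∀ k, NN Tv Tv cU lU k = ![2, 0, 2, 0] k ∧ NN Tv Tt cU lU k = ![0, 2, 0, 2] k ∧
    NN Tt Tt cU lU k = ![6, 0, 2, 0] k := by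
  decide +kernel
theorem N_V : ∀ k, NN Tv Tv cV lV k = ![3, 0, 0] k ∧ NN Tv Tt cV lV k = ![0, 0, 0] k ∧
    NN Tt Tt cV lV k = ![6, 3, 3] k := by
  decide +kernel
theorem N_T : ∀ k, NN Tv Tv cT lT k = ![3, 0] k ∧ NN Tv Tt cT lT k = ![0, 1] k ∧
    NN Tt Tt cT lT k = ![5, 0] k := by
  decide +kernel

theorem s_A_vv : ∑ p ∈ cl Tv, ∑ q ∈ cl Tv, cycA.ch (p * q) = 1944 * (0 : ℂ) := by
  rw [cycA.sum_ch Tv_sub Tv_sub Tv_conj Tv_conj]
  have h : ∀ k, NN Tv Tv cU lU k = _ := fun k => (N_U k).1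
  simp only [h, Fin.sum_univ_four, vA]
  simp
  try norm_num

theorem s_A_tt : ∑ p ∈ cl Tt, ∑ q ∈ cl Tt, cycA.ch (p * q) = 1944 * (1 : ℂ) := by
  rw [cycA.sum_ch Tt_sub Tt_sub Tt_conj Tt_conj]
  have h : ∀ k, NN Tt Tt cU lU k = _ := fun k => (N_U k).2.2
  simp only [h, Fin.sum_univ_four, vA]
  simp
  try norm_num

theorem s_P_vv : ∑ p ∈ cl Tv, ∑ q ∈ cl Tv, cycP.ch (p * q) = 1944 * (1 : ℂ) := by
  rw [cycP.sum_ch Tv_sub Tv_sub Tv_conj Tv_conj]
  have h : ∀ k, NN Tv Tv cU lU k = _ := fun k => (N_U k).1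
  simp only [h, Fin.sum_univ_four, vP]
  simp
  try norm_num

theorem s_P_vt : ∑ p ∈ cl Tv, ∑ q ∈ cl Tt, cycP.ch (p * q) = 1944 * (1 : ℂ) := by
  rw [cycP.sum_ch Tv_sub Tt_sub Tv_conj Tt_conj]
  have h : ∀ k, NN Tv Tt cU lU k = _ := fun k => (N_U k).2.1
  simp only [h, Fin.sum_univ_four, vP]
  simp
  try norm_num

theorem s_P_tt : ∑ p ∈ cl Tt, ∑ q ∈ cl Tt, cycP.ch (p * q) = 1944 * (2 : ℂ) := by
  rw [cycP.sum_ch Tt_sub Tt_sub Tt_conj Tt_conj]
  have h : ∀ k, NN Tt Tt cU lU k = _ := fun k => (N_U k).2.2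
  simp only [h, Fin.sum_univ_four, vP]
  simp
  try norm_num

theorem s_F_vv : ∑ p ∈ cl Tv, ∑ q ∈ cl Tv, cycF.ch (p * q) = 1944 * (1 : ℂ) := by
  rw [cycF.sum_ch Tv_sub Tv_sub Tv_conj Tv_conj]
  have h : ∀ k, NN Tv Tv cV lV k = _ := fun k => (N_V k).1
  simp only [h, Fin.sum_univ_three, vF]
  simp
  try norm_num

theorem s_F_vt : ∑ p ∈ cl Tv, ∑ q ∈ cl Tt, cycF.ch (p * q) = 1944 * (0 : ℂ) := by
  rw [cycF.sum_ch Tv_sub Tt_sub Tv_conj Tt_conj]
  have h : ∀ k, NN Tv Tt cV lV k = _ := fun k => (N_V k).2.1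
  simp only [h, Fin.sum_univ_three, vF]
  simp
  try norm_num

theorem s_F_tt : ∑ p ∈ cl Tt, ∑ q ∈ cl Tt, cycF.ch (p * q) = 1944 * (1 : ℂ) := by
  rw [cycF.sum_ch Tt_sub Tt_sub Tt_conj Tt_conj]
  have h : ∀ k, NN Tt Tt cV lV k = _ := fun k => (N_V k).2.2
  simp only [h, Fin.sum_univ_three, vF]
  simp
  have h1 := om_sum
  linear_combination 1944 * h1

theorem s_G_vv : ∑ p ∈ cl Tv, ∑ q ∈ cl Tv, cycG.ch (p * q) = 1944 * (3 / 2 : ℂ) := by
  rw [cycG.sum_ch Tv_sub Tv_sub Tv_conj Tv_conj]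
  have h : ∀ k, NN Tv Tv cT lT k = _ := fun k => (N_T k).1
  simp only [h, Fin.sum_univ_two, vG]
  simp
  try norm_num

theorem s_G_vt : ∑ p ∈ cl Tv, ∑ q ∈ cl Tt, cycG.ch (p * q) = 1944 * (1 / 2 : ℂ) := by
  rw [cycG.sum_ch Tv_sub Tt_sub Tv_conj Tt_conj]
  have h : ∀ k, NN Tv Tt cT lT k = _ := fun k => (N_T k).2.1
  simp only [h, Fin.sum_univ_two, vG]
  simp
  try norm_num

theorem s_G_tt : ∑ p ∈ cl Tt, ∑ q ∈ cl Tt, cycG.ch (p * q) = 1944 * (5 / 2 : ℂ) := by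
  rw [cycG.sum_ch Tt_sub Tt_sub Tt_conj Tt_conj]
  have h : ∀ k, NN Tt Tt cT lT k = _ := fun k => (N_T k).2.2
  simp only [h, Fin.sum_univ_two, vG]
  simp
  try norm_num

end Cfsg.Agent.H431.Alt
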