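import Mathlib
import Cfsg.Agent.H431.AltInd
import Cfsg.Agent.H431.AltTab
import Cfsg.Agent.OddOrderCharacters.PF4b.Prime

/-!
# The exceptional characters of a group with a subgroup `3^3 : S_4`

Main result `exists_normal`: the involution `v` lies in a normal subgroup which does not contain the
element `σ` of order 3.
-/

set_option autoImplicit false
set_option linter.unusedSimpArgs false
set_option linter.unusedVariables false

open Cfsg

namespace Cfsg.Agent.H431.Alt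

open Cfsg.Agent.Characters.Core Cfsg.Agent.OddOrderCharacters.VChar
open Cfsg.Agent.H431.ExcChar Cfsg.Agent.OddOrderCharacters.IndRes
open Cfsg.Agent.Characters.Central

open scoped ComplexConjugate

attribute [local irreducible] cl EE NN af

section

variable {G : Type*} [Group G] [Fintype G] [Fintype (IrrCharacter G)]

/-- the degree -/
noncomputable def deg (χ : IrrCharacter G) : ℤ := ((isIrr_apply_one χ.2).choose : ℕ)

omit [Fintype G] [Fintype (IrrCharacter G)] in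
theorem deg_pos (χ : IrrCharacter G) : 0 < deg χ := by
  unfold deg
  exact_mod_cast (isIrr_apply_one χ.2).choose_spec.1

omit [Fintype G] [Fintype (IrrCharacter G)] in
theorem deg_eq (χ : IrrCharacter G) : (deg χ : ℂ) = (χ : G → ℂ) 1 := by
  have h := (isIrr_apply_one χ.2).choose_spec.2
  unfold deg
  push_cast
  exact h.symm

/-- the vector of multiplicities -/
structure IsMult (Y : G → ℂ) (m : IrrCharacter G → ℤ) : Prop where
  eq : Y = ∑ χ : IrrCharacter G, m χ • (χ : G → ℂ)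

variable {Y Y' : G → ℂ} {m m' : IrrCharacter G → ℤ}

omit [Fintype G] in
theorem exists_isMult [Finite G] (h : IsGeneralizedCharacter G Y) : ∃ m, IsMult Y m := by
  obtain ⟨m, hm⟩ := isGeneralizedCharacter_iff.1 h
  exact ⟨m, ⟨hm⟩⟩

theorem IsMult.inner (h : IsMult Y m) (χ : IrrCharacter G) : classInner Y χ = m χ := by
  rw [h.eq, classInner_sum_zsmul_irr]

theorem IsMult.ip_eq (h : IsMult Y m) (h' : IsMult Y' m') {n : ℤ} (hn : classInner Y Y' = n) :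
    ip m m' = n := by
  have h1 : ((ip m m' : ℤ) : ℂ) = n := by
    rw [← hn]
    conv_rhs => rw [h'.eq]
    rw [classInner_sum_right]
    unfold ip
    push_cast
    refine Finset.sum_congr rfl fun χ _ => ?_
    rw [classInner_zsmul_right, h.inner]
    ring
  exact_mod_cast h1

omit [Fintype G] in
theorem IsMult.apply (h : IsMult Y m) (g : G) : Y g = lin (fun χ : IrrCharacter G => (χ : G → ℂ) g) m := by
  rw [h.eq]
  unfold lin
  rw [Finset.sum_apply]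
  refine Finset.sum_congr rfl fun χ _ => ?_
  rw [Pi.smul_apply, zsmul_eq_mul]

omit [Fintype G] in
theorem IsMult.ip_deg (h : IsMult Y m) (h1 : Y 1 = 0) : ip m deg = 0 := by
  have h2 : ((ip m deg : ℤ) : ℂ) = 0 := by
    rw [← h1, h.apply]
    unfold ip lin
    push_cast
    exact Finset.sum_congr rfl fun χ _ => by rw [deg_eq]
  exact_mod_cast h2

/-- class sums -/
theorem IsMult.sum_eq (h : IsMult Y m) (k k' : G) :
    ∑ a : G, ∑ b : G, Y (a * k * a⁻¹ * (b * k' * b⁻¹)) = (Nat.card G : ℂ) ^ 2 *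
      Phi deg (fun χ : IrrCharacter G => (χ : G → ℂ) k) (fun χ : IrrCharacter G => (χ : G → ℂ) k') m := by
  have key : ∀ χ : IrrCharacter G, ∑ a : G, ∑ b : G, (χ : G → ℂ) (a * k * a⁻¹ * (b * k' * b⁻¹)) =
      (Nat.card G : ℂ) ^ 2 * ((χ : G → ℂ) k * (χ : G → ℂ) k' / (deg χ : ℂ)) := by
    intro χ
    rw [Finset.sum_comm]
    have e2 : ∀ b : G, ∑ a : G, (χ : G → ℂ) (a * k * a⁻¹ * (b * k' * b⁻¹)) =
        (Nat.card G : ℂ) * ((χ : G → ℂ) k * (χ : G → ℂ) k' / (deg χ : ℂ)) := by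
      intro b
      rw [sum_char_conj_mul χ.2, isIrr_isClassFunction χ.2 k' b, deg_eq]
      ring
    simp_rw [e2]
    rw [Finset.sum_const, Finset.card_univ, nsmul_eq_mul, ← Nat.card_eq_fintype_card]
    ring
  have e1 : ∀ a b : G, Y (a * k * a⁻¹ * (b * k' * b⁻¹)) =
      ∑ χ : IrrCharacter G, (m χ : ℂ) * (χ : G → ℂ) (a * k * a⁻¹ * (b * k' * b⁻¹)) := by
    intro a b
    rw [h.apply]
    rfl
  rw [Finset.sum_congr rfl fun a _ => Finset.sum_congr rfl fun b _ => e1 a b,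
    sum3 Finset.univ Finset.univ (fun (χ : IrrCharacter G) a b =>
      (m χ : ℂ) * (χ : G → ℂ) (a * k * a⁻¹ * (b * k' * b⁻¹)))]
  simp only [← Finset.mul_sum]
  rw [Phi, lin, Finset.mul_sum]
  refine Finset.sum_congr rfl fun χ _ => ?_
  rw [key]
  ring

end

section

variable {G : Type*} [Group G] [Fintype G] {H : Subgroup G} [Fintype H] {E : H ≃* Md}

omit [Fintype H] in
/-- the value of the quadratic functional -/
theorem phi_eq [Fintype (IrrCharacter G)] (F : Fus3 E) {θ : Md → ℂ} (hs : ∀ x, θ x ≠ 0 → DD x)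
    {m : IrrCharacter G → ℤ} (hm : IsMult (YY3 E θ) m) {T T' : Finset Q}
    {x₀ x₀' : Md} (R : Rep E T x₀) (R' : Rep E T' x₀') {N s : ℂ}
    (hN : ∑ x ∈ cl T, ∑ y ∈ cl T', θ (x * y) = 1944 * N) (hs2 : s ^ 2 = 3 / (2 * (Nat.card G : ℂ))) :
    Phi deg (fun χ : IrrCharacter G => (χ : G → ℂ) (kk E x₀))
      (fun χ : IrrCharacter G => (χ : G → ℂ) (kk E x₀')) m =
      2 * N * (((Nat.card (Subgroup.centralizer ({kk E x₀} : Set G)) : ℂ) * s) *
        ((Nat.card (Subgroup.centralizer ({kk E x₀'} : Set G)) : ℂ) * s)) := by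
  have h1 := hm.sum_eq (kk E x₀) (kk E x₀')
  rw [class_sum F hs R R', hN, Nat.card_congr E.toEquiv, card_Md] at h1
  have hG : (Nat.card G : ℂ) ≠ 0 := card_ne_zero_complex
  have h2 : ((Nat.card (Subgroup.centralizer ({kk E x₀} : Set G)) : ℂ) * s) *
        ((Nat.card (Subgroup.centralizer ({kk E x₀'} : Set G)) : ℂ) * s) =
      (Nat.card (Subgroup.centralizer ({kk E x₀} : Set G)) : ℂ) *
        (Nat.card (Subgroup.centralizer ({kk E x₀'} : Set G)) : ℂ) * (3 / (2 * (Nat.card G : ℂ))) := by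
    rw [← hs2]; ring
  rw [h2]
  have h3 : (Nat.card G : ℂ) ^ 2 ≠ 0 := pow_ne_zero 2 hG
  apply mul_left_cancel₀ h3
  rw [← h1]
  push_cast
  field_simp
  ring

theorem exists_chi (F : Fus3 E) : ∃ χ : IrrCharacter G, (χ : G → ℂ) 1 = 2 ∧
    (χ : G → ℂ) (kk E xv) = 2 ∧ classInner (YY3 E cycF.ch) χ = 1 := by
  classical
  have := finite_irr (G := G)
  have := Fintype.ofFinite (IrrCharacter G)
  have hG : (Nat.card G : ℂ) ≠ 0 := card_ne_zero_complex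
  obtain ⟨s, hs2⟩ : ∃ s : ℂ, s ^ 2 = 3 / (2 * (Nat.card G : ℂ)) := by
    obtain ⟨s, hs⟩ := IsAlgClosed.exists_pow_nat_eq (3 / (2 * (Nat.card G : ℂ))) (n := 2) (by norm_num)
    exact ⟨s, hs⟩
  have hs0 : s ≠ 0 := by
    intro h
    rw [h] at hs2
    have : (3 : ℂ) / (2 * (Nat.card G : ℂ)) ≠ 0 :=
      div_ne_zero (by norm_num) (mul_ne_zero two_ne_zero hG)
    exact this (by rw [← hs2]; norm_num)
  have sA : ∀ x, cycA.ch x ≠ 0 → DD x := fun x h => cycA.supp DU h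
  have sA2 : ∀ x, cycA'.ch x ≠ 0 → DD x := fun x h => cycA'.supp DU h
  have sP : ∀ x, cycP.ch x ≠ 0 → DD x := fun x h => cycP.supp DU h
  have sF : ∀ x, cycF.ch x ≠ 0 → DD x := fun x h => cycF.supp DV h
  have sF2 : ∀ x, cycF'.ch x ≠ 0 → DD x := fun x h => cycF'.supp DV h
  have sG : ∀ x, cycG.ch x ≠ 0 → DD x := fun x h => cycG.supp DT h
  obtain ⟨mA, hA⟩ := exists_isMult (gen_YY3 (E := E) cycA.gen_ch)
  obtain ⟨mA2, hA2⟩ := exists_isMult (gen_YY3 (E := E) cycA'.gen_ch)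
  obtain ⟨mP, hP⟩ := exists_isMult (gen_YY3 (E := E) cycP.gen_ch)
  obtain ⟨mF, hF⟩ := exists_isMult (gen_YY3 (E := E) cycF.gen_ch)
  obtain ⟨mF2, hF2⟩ := exists_isMult (gen_YY3 (E := E) cycF'.gen_ch)
  obtain ⟨mG, hG⟩ := exists_isMult (gen_YY3 (E := E) cycG.gen_ch)
  have iAA : ip mA mA = 3 := hA.ip_eq hA (by
    rw [inner_YY3 F cycA.gen_ch sA, g_AA]; norm_num)
  have iAA2 : ip mA mA2 = 2 := hA.ip_eq hA2 (by
    rw [inner_YY3 F cycA'.gen_ch sA, g_AA2]; norm_num)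
  have iA2A : ip mA2 mA = 2 := by rw [ip_comm, iAA2]
  have iAP : ip mA mP = 1 := hA.ip_eq hP (by
    rw [inner_YY3 F cycP.gen_ch sA, g_AP]; norm_num)
  have iPA : ip mP mA = 1 := by rw [ip_comm, iAP]
  have iAF : ip mA mF = 2 := hA.ip_eq hF (by
    rw [inner_YY3 F cycF.gen_ch sA, g_AF]; norm_num)
  have iFA : ip mF mA = 2 := by rw [ip_comm, iAF]
  have iAF2 : ip mA mF2 = 2 := hA.ip_eq hF2 (by
    rw [inner_YY3 F cycF'.gen_ch sA, g_AF2]; norm_num)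
  have iF2A : ip mF2 mA = 2 := by rw [ip_comm, iAF2]
  have iAG : ip mA mG = 3 := hA.ip_eq hG (by
    rw [inner_YY3 F cycG.gen_ch sA, g_AG]; norm_num)
  have iGA : ip mG mA = 3 := by rw [ip_comm, iAG]
  have iA2A2 : ip mA2 mA2 = 3 := hA2.ip_eq hA2 (by
    rw [inner_YY3 F cycA'.gen_ch sA2, g_A2A2]; norm_num)
  have iA2P : ip mA2 mP = 1 := hA2.ip_eq hP (by
    rw [inner_YY3 F cycP.gen_ch sA2, g_A2P]; norm_num)
  have iPA2 : ip mP mA2 = 1 := by rw [ip_comm, iA2P]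
  have iA2F : ip mA2 mF = 2 := hA2.ip_eq hF (by
    rw [inner_YY3 F cycF.gen_ch sA2, g_A2F]; norm_num)
  have iFA2 : ip mF mA2 = 2 := by rw [ip_comm, iA2F]
  have iA2F2 : ip mA2 mF2 = 2 := hA2.ip_eq hF2 (by
    rw [inner_YY3 F cycF'.gen_ch sA2, g_A2F2]; norm_num)
  have iF2A2 : ip mF2 mA2 = 2 := by rw [ip_comm, iA2F2]
  have iA2G : ip mA2 mG = 3 := hA2.ip_eq hG (by
    rw [inner_YY3 F cycG.gen_ch sA2, g_A2G]; norm_num)
  have iGA2 : ip mG mA2 = 3 := by rw [ip_comm, iA2G]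
  have iPP : ip mP mP = 4 := hP.ip_eq hP (by
    rw [inner_YY3 F cycP.gen_ch sP, g_PP]; norm_num)
  have iPF : ip mP mF = 2 := hP.ip_eq hF (by
    rw [inner_YY3 F cycF.gen_ch sP, g_PF]; norm_num)
  have iFP : ip mF mP = 2 := by rw [ip_comm, iPF]
  have iPF2 : ip mP mF2 = 2 := hP.ip_eq hF2 (by
    rw [inner_YY3 F cycF'.gen_ch sP, g_PF2]; norm_num)
  have iF2P : ip mF2 mP = 2 := by rw [ip_comm, iPF2]
  have iPG : ip mP mG = 3 := hP.ip_eq hG (by
    rw [inner_YY3 F cycG.gen_ch sP, g_PG]; norm_num)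
  have iGP : ip mG mP = 3 := by rw [ip_comm, iPG]
  have iFF : ip mF mF = 4 := hF.ip_eq hF (by
    rw [inner_YY3 F cycF.gen_ch sF, g_FF]; norm_num)
  have iFF2 : ip mF mF2 = 3 := hF.ip_eq hF2 (by
    rw [inner_YY3 F cycF'.gen_ch sF, g_FF2]; norm_num)
  have iF2F : ip mF2 mF = 3 := by rw [ip_comm, iFF2]
  have iFG : ip mF mG = 4 := hF.ip_eq hG (by
    rw [inner_YY3 F cycG.gen_ch sF, g_FG]; norm_num)
  have iGF : ip mG mF = 4 := by rw [ip_comm, iFG]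
  have iF2F2 : ip mF2 mF2 = 4 := hF2.ip_eq hF2 (by
    rw [inner_YY3 F cycF'.gen_ch sF2, g_F2F2]; norm_num)
  have iF2G : ip mF2 mG = 4 := hF2.ip_eq hG (by
    rw [inner_YY3 F cycG.gen_ch sF2, g_F2G]; norm_num)
  have iGF2 : ip mG mF2 = 4 := by rw [ip_comm, iF2G]
  have iGG : ip mG mG = 8 := hG.ip_eq hG (by
    rw [inner_YY3 F cycG.gen_ch sG, g_GG]; norm_num)
  have h11 : (1 : G) * 1 = 1 := one_mul 1
  have hv1 : kk E xv * kk E xv = 1 := kk_mul_self (mem_cl.1 xv_mem).2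
  have ht1 : kk E xt * kk E xt = 1 := kk_mul_self (mem_cl.1 xt_mem).2
  have fA : ip mA deg = 0 := hA.ip_deg (YY3_eq_zero sA h11)
  have gvA : lin (fun χ : IrrCharacter G => (χ : G → ℂ) (kk E xv)) mA = 0 := by
    rw [← hA.apply, YY3_eq_zero sA hv1]
  have gtA : lin (fun χ : IrrCharacter G => (χ : G → ℂ) (kk E xt)) mA = 0 := by
    rw [← hA.apply, YY3_eq_zero sA ht1]
  have oA : mA ⟨1, isIrr_one⟩ = 0 := by
    have h := hA.inner ⟨1, isIrr_one⟩
    have h' : classInner (YY3 E cycA.ch) 1 = 0 := by rw [inner_YY3_one, o_A]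
    have h'' : ((mA ⟨1, isIrr_one⟩ : ℤ) : ℂ) = 0 := by rw [← h]; exact h'
    exact_mod_cast h''
  have fA2 : ip mA2 deg = 0 := hA2.ip_deg (YY3_eq_zero sA2 h11)
  have gvA2 : lin (fun χ : IrrCharacter G => (χ : G → ℂ) (kk E xv)) mA2 = 0 := by
    rw [← hA2.apply, YY3_eq_zero sA2 hv1]
  have gtA2 : lin (fun χ : IrrCharacter G => (χ : G → ℂ) (kk E xt)) mA2 = 0 := by
    rw [← hA2.apply, YY3_eq_zero sA2 ht1]
  have oA2 : mA2 ⟨1, isIrr_one⟩ = 0 := by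
    have h := hA2.inner ⟨1, isIrr_one⟩
    have h' : classInner (YY3 E cycA'.ch) 1 = 0 := by rw [inner_YY3_one, o_A2]
    have h'' : ((mA2 ⟨1, isIrr_one⟩ : ℤ) : ℂ) = 0 := by rw [← h]; exact h'
    exact_mod_cast h''
  have fP : ip mP deg = 0 := hP.ip_deg (YY3_eq_zero sP h11)
  have gvP : lin (fun χ : IrrCharacter G => (χ : G → ℂ) (kk E xv)) mP = 0 := by
    rw [← hP.apply, YY3_eq_zero sP hv1]
  have gtP : lin (fun χ : IrrCharacter G => (χ : G → ℂ) (kk E xt)) mP = 0 := by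
    rw [← hP.apply, YY3_eq_zero sP ht1]
  have oP : mP ⟨1, isIrr_one⟩ = 1 := by
    have h := hP.inner ⟨1, isIrr_one⟩
    have h' : classInner (YY3 E cycP.ch) 1 = 1 := by rw [inner_YY3_one, o_P]
    have h'' : ((mP ⟨1, isIrr_one⟩ : ℤ) : ℂ) = 1 := by rw [← h]; exact h'
    exact_mod_cast h''
  have fF : ip mF deg = 0 := hF.ip_deg (YY3_eq_zero sF h11)
  have gvF : lin (fun χ : IrrCharacter G => (χ : G → ℂ) (kk E xv)) mF = 0 := by
    rw [← hF.apply, YY3_eq_zero sF hv1]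
  have gtF : lin (fun χ : IrrCharacter G => (χ : G → ℂ) (kk E xt)) mF = 0 := by
    rw [← hF.apply, YY3_eq_zero sF ht1]
  have oF : mF ⟨1, isIrr_one⟩ = 0 := by
    have h := hF.inner ⟨1, isIrr_one⟩
    have h' : classInner (YY3 E cycF.ch) 1 = 0 := by rw [inner_YY3_one, o_F]
    have h'' : ((mF ⟨1, isIrr_one⟩ : ℤ) : ℂ) = 0 := by rw [← h]; exact h'
    exact_mod_cast h''
  have fF2 : ip mF2 deg = 0 := hF2.ip_deg (YY3_eq_zero sF2 h11)
  have gvF2 : lin (fun χ : IrrCharacter G => (χ : G → ℂ) (kk E xv)) mF2 = 0 := by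
    rw [← hF2.apply, YY3_eq_zero sF2 hv1]
  have gtF2 : lin (fun χ : IrrCharacter G => (χ : G → ℂ) (kk E xt)) mF2 = 0 := by
    rw [← hF2.apply, YY3_eq_zero sF2 ht1]
  have oF2 : mF2 ⟨1, isIrr_one⟩ = 0 := by
    have h := hF2.inner ⟨1, isIrr_one⟩
    have h' : classInner (YY3 E cycF'.ch) 1 = 0 := by rw [inner_YY3_one, o_F2]
    have h'' : ((mF2 ⟨1, isIrr_one⟩ : ℤ) : ℂ) = 0 := by rw [← h]; exact h'
    exact_mod_cast h''
  have fG : ip mG deg = 0 := hG.ip_deg (YY3_eq_zero sG h11)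
  have gvG : lin (fun χ : IrrCharacter G => (χ : G → ℂ) (kk E xv)) mG = 0 := by
    rw [← hG.apply, YY3_eq_zero sG hv1]
  have gtG : lin (fun χ : IrrCharacter G => (χ : G → ℂ) (kk E xt)) mG = 0 := by
    rw [← hG.apply, YY3_eq_zero sG ht1]
  have oG : mG ⟨1, isIrr_one⟩ = 1 := by
    have h := hG.inner ⟨1, isIrr_one⟩
    have h' : classInner (YY3 E cycG.ch) 1 = 1 := by rw [inner_YY3_one, o_G]
    have h'' : ((mG ⟨1, isIrr_one⟩ : ℤ) : ℂ) = 1 := by rw [← h]; exact h'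
    exact_mod_cast h''
  have Rv := rep_v F
  have Rt := rep_t F
  have pAvv := phi_eq F sA hA Rv Rv s_A_vv hs2
  have pAtt := phi_eq F sA hA Rt Rt s_A_tt hs2
  have pPvv := phi_eq F sP hP Rv Rv s_P_vv hs2
  have pPvt := phi_eq F sP hP Rv Rt s_P_vt hs2
  have pPtt := phi_eq F sP hP Rt Rt s_P_tt hs2
  have pFvv := phi_eq F sF hF Rv Rv s_F_vv hs2
  have pFvt := phi_eq F sF hF Rv Rt s_F_vt hs2
  have pFtt := phi_eq F sF hF Rt Rt s_F_tt hs2
  have pGvv := phi_eq F sG hG Rv Rv s_G_vv hs2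
  have pGvt := phi_eq F sG hG Rv Rt s_G_vt hs2
  have pGtt := phi_eq F sG hG Rt Rt s_G_tt hs2
  obtain ⟨l, hl⟩ : ∃ l : ℂ, l = (Nat.card (Subgroup.centralizer ({kk E xv} : Set G)) : ℂ) * s := ⟨_, rfl⟩
  obtain ⟨k, hk⟩ : ∃ k : ℂ, k = (Nat.card (Subgroup.centralizer ({kk E xt} : Set G)) : ℂ) * s := ⟨_, rfl⟩
  rw [← hl] at pAvv
  rw [← hk] at pAtt
  rw [← hl] at pPvv
  rw [← hl, ← hk] at pPvt
  rw [← hk] at pPtt
  rw [← hl] at pFvv
  rw [← hl, ← hk] at pFvt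
  rw [← hk] at pFtt
  rw [← hl] at pGvv
  rw [← hl, ← hk] at pGvt
  rw [← hk] at pGtt
  have l0 : l ≠ 0 := by
    rw [hl]
    exact mul_ne_zero (Nat.cast_ne_zero.2 Nat.card_pos.ne') hs0
  have k0 : k ≠ 0 := by
    rw [hk]
    exact mul_ne_zero (Nat.cast_ne_zero.2 Nat.card_pos.ne') hs0
  have D : Dat (⟨1, isIrr_one⟩ : IrrCharacter G) deg (fun χ : IrrCharacter G => (χ : G → ℂ) (kk E xv))
      (fun χ : IrrCharacter G => (χ : G → ℂ) (kk E xt)) l k (mF2 - mF) (mA2 - mA) mA (mF - mA)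
      (mP - mF) (mG - mF) :=
    { fpos := deg_pos
      fo := by
        have h := deg_eq (⟨1, isIrr_one⟩ : IrrCharacter G)
        have h' : ((deg (⟨1, isIrr_one⟩ : IrrCharacter G) : ℤ) : ℂ) = (1 : ℤ) := by rw [h]; simp
        exact_mod_cast h'
      l0 := l0
      k0 := k0
      bb := by simp only [ip_sub_left, ip_sub_right, iAA, iAA2, iAP, iAF, iAF2, iAG, iA2A, iA2A2, iA2P, iA2F, iA2F2, iA2G, iPA, iPA2, iPP, iPF, iPF2, iPG, iFA, iFA2, iFP, iFF, iFF2, iFG, iF2A, iF2A2, iF2P, iF2F, iF2F2, iF2G, iGA, iGA2, iGP, iGF, iGF2, iGG]; try norm_num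
      cc := by simp only [ip_sub_left, ip_sub_right, iAA, iAA2, iAP, iAF, iAF2, iAG, iA2A, iA2A2, iA2P, iA2F, iA2F2, iA2G, iPA, iPA2, iPP, iPF, iPF2, iPG, iFA, iFA2, iFP, iFF, iFF2, iFG, iF2A, iF2A2, iF2P, iF2F, iF2F2, iF2G, iGA, iGA2, iGP, iGF, iGF2, iGG]; try norm_num
      AA := by simp only [ip_sub_left, ip_sub_right, iAA, iAA2, iAP, iAF, iAF2, iAG, iA2A, iA2A2, iA2P, iA2F, iA2F2, iA2G, iPA, iPA2, iPP, iPF, iPF2, iPG, iFA, iFA2, iFP, iFF, iFF2, iFG, iF2A, iF2A2, iF2P, iF2F, iF2F2, iF2G, iGA, iGA2, iGP, iGF, iGF2, iGG]; try norm_num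
      BB := by simp only [ip_sub_left, ip_sub_right, iAA, iAA2, iAP, iAF, iAF2, iAG, iA2A, iA2A2, iA2P, iA2F, iA2F2, iA2G, iPA, iPA2, iPP, iPF, iPF2, iPG, iFA, iFA2, iFP, iFF, iFF2, iFG, iF2A, iF2A2, iF2P, iF2F, iF2F2, iF2G, iGA, iGA2, iGP, iGF, iGF2, iGG]; try norm_num
      PP := by simp only [ip_sub_left, ip_sub_right, iAA, iAA2, iAP, iAF, iAF2, iAG, iA2A, iA2A2, iA2P, iA2F, iA2F2, iA2G, iPA, iPA2, iPP, iPF, iPF2, iPG, iFA, iFA2, iFP, iFF, iFF2, iFG, iF2A, iF2A2, iF2P, iF2F, iF2F2, iF2G, iGA, iGA2, iGP, iGF, iGF2, iGG]; try norm_num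
      RR := by simp only [ip_sub_left, ip_sub_right, iAA, iAA2, iAP, iAF, iAF2, iAG, iA2A, iA2A2, iA2P, iA2F, iA2F2, iA2G, iPA, iPA2, iPP, iPF, iPF2, iPG, iFA, iFA2, iFP, iFF, iFF2, iFG, iF2A, iF2A2, iF2P, iF2F, iF2F2, iF2G, iGA, iGA2, iGP, iGF, iGF2, iGG]; try norm_num
      bc := by simp only [ip_sub_left, ip_sub_right, iAA, iAA2, iAP, iAF, iAF2, iAG, iA2A, iA2A2, iA2P, iA2F, iA2F2, iA2G, iPA, iPA2, iPP, iPF, iPF2, iPG, iFA, iFA2, iFP, iFF, iFF2, iFG, iF2A, iF2A2, iF2P, iF2F, iF2F2, iF2G, iGA, iGA2, iGP, iGF, iGF2, iGG]; try norm_num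
      Ab := by simp only [ip_sub_left, ip_sub_right, iAA, iAA2, iAP, iAF, iAF2, iAG, iA2A, iA2A2, iA2P, iA2F, iA2F2, iA2G, iPA, iPA2, iPP, iPF, iPF2, iPG, iFA, iFA2, iFP, iFF, iFF2, iFG, iF2A, iF2A2, iF2P, iF2F, iF2F2, iF2G, iGA, iGA2, iGP, iGF, iGF2, iGG]; try norm_num
      Ac := by simp only [ip_sub_left, ip_sub_right, iAA, iAA2, iAP, iAF, iAF2, iAG, iA2A, iA2A2, iA2P, iA2F, iA2F2, iA2G, iPA, iPA2, iPP, iPF, iPF2, iPG, iFA, iFA2, iFP, iFF, iFF2, iFG, iF2A, iF2A2, iF2P, iF2F, iF2F2, iF2G, iGA, iGA2, iGP, iGF, iGF2, iGG]; try norm_num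
      Bb := by simp only [ip_sub_left, ip_sub_right, iAA, iAA2, iAP, iAF, iAF2, iAG, iA2A, iA2A2, iA2P, iA2F, iA2F2, iA2G, iPA, iPA2, iPP, iPF, iPF2, iPG, iFA, iFA2, iFP, iFF, iFF2, iFG, iF2A, iF2A2, iF2P, iF2F, iF2F2, iF2G, iGA, iGA2, iGP, iGF, iGF2, iGG]; try norm_num
      Bc := by simp only [ip_sub_left, ip_sub_right, iAA, iAA2, iAP, iAF, iAF2, iAG, iA2A, iA2A2, iA2P, iA2F, iA2F2, iA2G, iPA, iPA2, iPP, iPF, iPF2, iPG, iFA, iFA2, iFP, iFF, iFF2, iFG, iF2A, iF2A2, iF2P, iF2F, iF2F2, iF2G, iGA, iGA2, iGP, iGF, iGF2, iGG]; try norm_num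
      AB := by simp only [ip_sub_left, ip_sub_right, iAA, iAA2, iAP, iAF, iAF2, iAG, iA2A, iA2A2, iA2P, iA2F, iA2F2, iA2G, iPA, iPA2, iPP, iPF, iPF2, iPG, iFA, iFA2, iFP, iFF, iFF2, iFG, iF2A, iF2A2, iF2P, iF2F, iF2F2, iF2G, iGA, iGA2, iGP, iGF, iGF2, iGG]; try norm_num
      Pb := by simp only [ip_sub_left, ip_sub_right, iAA, iAA2, iAP, iAF, iAF2, iAG, iA2A, iA2A2, iA2P, iA2F, iA2F2, iA2G, iPA, iPA2, iPP, iPF, iPF2, iPG, iFA, iFA2, iFP, iFF, iFF2, iFG, iF2A, iF2A2, iF2P, iF2F, iF2F2, iF2G, iGA, iGA2, iGP, iGF, iGF2, iGG]; try norm_num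
      Pc := by simp only [ip_sub_left, ip_sub_right, iAA, iAA2, iAP, iAF, iAF2, iAG, iA2A, iA2A2, iA2P, iA2F, iA2F2, iA2G, iPA, iPA2, iPP, iPF, iPF2, iPG, iFA, iFA2, iFP, iFF, iFF2, iFG, iF2A, iF2A2, iF2P, iF2F, iF2F2, iF2G, iGA, iGA2, iGP, iGF, iGF2, iGG]; try norm_num
      PA := by simp only [ip_sub_left, ip_sub_right, iAA, iAA2, iAP, iAF, iAF2, iAG, iA2A, iA2A2, iA2P, iA2F, iA2F2, iA2G, iPA, iPA2, iPP, iPF, iPF2, iPG, iFA, iFA2, iFP, iFF, iFF2, iFG, iF2A, iF2A2, iF2P, iF2F, iF2F2, iF2G, iGA, iGA2, iGP, iGF, iGF2, iGG]; try norm_num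
      PB := by simp only [ip_sub_left, ip_sub_right, iAA, iAA2, iAP, iAF, iAF2, iAG, iA2A, iA2A2, iA2P, iA2F, iA2F2, iA2G, iPA, iPA2, iPP, iPF, iPF2, iPG, iFA, iFA2, iFP, iFF, iFF2, iFG, iF2A, iF2A2, iF2P, iF2F, iF2F2, iF2G, iGA, iGA2, iGP, iGF, iGF2, iGG]; try norm_num
      Rb := by simp only [ip_sub_left, ip_sub_right, iAA, iAA2, iAP, iAF, iAF2, iAG, iA2A, iA2A2, iA2P, iA2F, iA2F2, iA2G, iPA, iPA2, iPP, iPF, iPF2, iPG, iFA, iFA2, iFP, iFF, iFF2, iFG, iF2A, iF2A2, iF2P, iF2F, iF2F2, iF2G, iGA, iGA2, iGP, iGF, iGF2, iGG]; try norm_num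
      Rc := by simp only [ip_sub_left, ip_sub_right, iAA, iAA2, iAP, iAF, iAF2, iAG, iA2A, iA2A2, iA2P, iA2F, iA2F2, iA2G, iPA, iPA2, iPP, iPF, iPF2, iPG, iFA, iFA2, iFP, iFF, iFF2, iFG, iF2A, iF2A2, iF2P, iF2F, iF2F2, iF2G, iGA, iGA2, iGP, iGF, iGF2, iGG]; try norm_num
      RA := by simp only [ip_sub_left, ip_sub_right, iAA, iAA2, iAP, iAF, iAF2, iAG, iA2A, iA2A2, iA2P, iA2F, iA2F2, iA2G, iPA, iPA2, iPP, iPF, iPF2, iPG, iFA, iFA2, iFP, iFF, iFF2, iFG, iF2A, iF2A2, iF2P, iF2F, iF2F2, iF2G, iGA, iGA2, iGP, iGF, iGF2, iGG]; try norm_num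
      RB := by simp only [ip_sub_left, ip_sub_right, iAA, iAA2, iAP, iAF, iAF2, iAG, iA2A, iA2A2, iA2P, iA2F, iA2F2, iA2G, iPA, iPA2, iPP, iPF, iPF2, iPG, iFA, iFA2, iFP, iFF, iFF2, iFG, iF2A, iF2A2, iF2P, iF2F, iF2F2, iF2G, iGA, iGA2, iGP, iGF, iGF2, iGG]; try norm_num
      RP := by simp only [ip_sub_left, ip_sub_right, iAA, iAA2, iAP, iAF, iAF2, iAG, iA2A, iA2A2, iA2P, iA2F, iA2F2, iA2G, iPA, iPA2, iPP, iPF, iPF2, iPG, iFA, iFA2, iFP, iFF, iFF2, iFG, iF2A, iF2A2, iF2P, iF2F, iF2F2, iF2G, iGA, iGA2, iGP, iGF, iGF2, iGG]; try norm_num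
      bo := by simp only [Pi.sub_apply, oA, oA2, oP, oF, oF2, oG]; try norm_num
      co := by simp only [Pi.sub_apply, oA, oA2, oP, oF, oF2, oG]; try norm_num
      Ao := by simp only [Pi.sub_apply, oA, oA2, oP, oF, oF2, oG]; try norm_num
      Bo := by simp only [Pi.sub_apply, oA, oA2, oP, oF, oF2, oG]; try norm_num
      Po := by simp only [Pi.sub_apply, oA, oA2, oP, oF, oF2, oG]; try norm_num
      Ro := by simp only [Pi.sub_apply, oA, oA2, oP, oF, oF2, oG]; try norm_num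
      fb := by simp only [ip_sub_left, fA, fA2, fP, fF, fF2, fG]; try norm_num
      fc := by simp only [ip_sub_left, fA, fA2, fP, fF, fF2, fG]; try norm_num
      fA := by simp only [ip_sub_left, fA, fA2, fP, fF, fF2, fG]; try norm_num
      fB := by simp only [ip_sub_left, fA, fA2, fP, fF, fF2, fG]; try norm_num
      fP := by simp only [ip_sub_left, fA, fA2, fP, fF, fF2, fG]; try norm_num
      fR := by simp only [ip_sub_left, fA, fA2, fP, fF, fF2, fG]; try norm_num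
      gb := by simp only [lin_sub, gvA, gvA2, gvP, gvF, gvF2, gvG]; try norm_num
      gc := by simp only [lin_sub, gvA, gvA2, gvP, gvF, gvF2, gvG]; try norm_num
      gA := by simp only [lin_sub, gvA, gvA2, gvP, gvF, gvF2, gvG]; try norm_num
      gB := by simp only [lin_sub, gvA, gvA2, gvP, gvF, gvF2, gvG]; try norm_num
      gP := by simp only [lin_sub, gvA, gvA2, gvP, gvF, gvF2, gvG]; try norm_num
      gR := by simp only [lin_sub, gvA, gvA2, gvP, gvF, gvF2, gvG]; try norm_num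
      hb := by simp only [lin_sub, gtA, gtA2, gtP, gtF, gtF2, gtG]; try norm_num
      hc := by simp only [lin_sub, gtA, gtA2, gtP, gtF, gtF2, gtG]; try norm_num
      hA := by simp only [lin_sub, gtA, gtA2, gtP, gtF, gtF2, gtG]; try norm_num
      hB := by simp only [lin_sub, gtA, gtA2, gtP, gtF, gtF2, gtG]; try norm_num
      hP := by simp only [lin_sub, gtA, gtA2, gtP, gtF, gtF2, gtG]; try norm_num
      hR := by simp only [lin_sub, gtA, gtA2, gtP, gtF, gtF2, gtG]; try norm_num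
      Agg := by rw [pAvv]; ring
      Ahh := by rw [pAtt]; ring
      Bgg := by rw [Phi_sub, pFvv, pAvv]; ring
      Bhh := by rw [Phi_sub, pFtt, pAtt]; ring
      Pgg := by rw [Phi_sub, pPvv, pFvv]; ring
      Pgh := by rw [Phi_sub, pPvt, pFvt]; ring
      Phh := by rw [Phi_sub, pPtt, pFtt]; ring
      Rgg := by rw [Phi_sub, pGvv, pFvv]; ring
      Rgh := by rw [Phi_sub, pGvt, pFvt]; ring }
  obtain ⟨χ, h1, h2, h3, h4⟩ := D.exists_char
  refine ⟨χ, ?_, ?_, ?_⟩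
  · rw [← deg_eq, h1]; norm_num
  · rw [h2]; simp
  · rw [hF.inner]
    rw [Pi.sub_apply, h3] at h4
    have : mF χ = 1 := by omega
    rw [this]; norm_num

omit [Fintype G] [Fintype H] in
theorem cs0 : cV 1 = s0 := rfl

theorem af_mul_s0 (x : Md) : af (lam lV) (chi cV vF) (x * ⟨0, s0⟩) = om * af (lam lV) (chi cV vF) x := by
  unfold af
  have e1 : chi cV vF (x.M * s0) = om * chi cV vF x.M := by
    by_cases hM : x.M ∈ cycF.sub
    · rw [cycF.linDat.mul _ hM _ ⟨1, cs0⟩, ← cs0, cycF.chi_apply]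
      show _ * om = _
      ring
    · rw [cycF.linDat.out _ hM, mul_zero]
      apply cycF.linDat.out
      intro h
      have hs0 : s0 ∈ cycF.sub := ⟨1, cs0⟩
      exact hM ((Subgroup.mul_mem_cancel_right _ hs0).1 h)
  rw [Sd.mul_u, Sd.mul_M, smul_zero, add_zero, e1]
  ring

theorem inner_F_zero {χ : G → ℂ} (hχ : IsIrrCharacter G χ)
    (hs : ∀ g, χ (g * kk E ⟨0, s0⟩) = χ g) : classInner (YY3 E cycF.ch) χ = 0 := by
  classical
  have hcl := isIrr_isClassFunction hχ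
  have hcl' : IsClassFunction Md (fun x => χ (kk E x)) := by
    intro x y
    show χ (kk E (y * x * y⁻¹)) = χ (kk E x)
    rw [kk_mul, kk_mul, kk_inv, hcl]
  have e1 : classInner (YY3 E cycF.ch) χ = classInner cycF.ch (fun x => χ (kk E x)) := by
    rw [YY3, classInner_indFun_left H _ hcl, ← inner_comp (E := E)]
    congr 1
    funext y
    rw [res_apply]
    unfold kk
    rw [MulEquiv.symm_apply_apply]
  have e2 : classInner cycF.ch (fun x => χ (kk E x)) = ((Nat.card V3 : ℂ) * Nat.card cycF.sub)⁻¹ *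
      ∑ x : Md, af (lam lV) (chi cV vF) x * conj (χ (kk E x)) := by
    rw [Cyc.ch, th, Cfsg.Agent.S0150.classInner_indFun _ _ (fun x => χ (kk E x)) hcl', classInner_def,
      Sd.card_SC]
    push_cast
    congr 1
    exact sum_subgroup (Sd.SC cycF.sub) (fun y => af (lam lV) (chi cV vF) y * conj (χ (kk E y)))
      (fun y hy => by
        have : af (lam lV) (chi cV vF) y = 0 := by
          unfold af
          rw [cycF.linDat.out _ (fun h' => hy (Sd.mem_SC.2 h')), mul_zero]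
        rw [this, zero_mul])
  have e3 : ∑ x : Md, af (lam lV) (chi cV vF) x * conj (χ (kk E x)) =
      om * ∑ x : Md, af (lam lV) (chi cV vF) x * conj (χ (kk E x)) := by
    rw [Finset.mul_sum]
    rw [← Equiv.sum_comp (Equiv.mulRight (⟨0, s0⟩ : Md))]
    refine Finset.sum_congr rfl fun x _ => ?_
    rw [Equiv.coe_mulRight, af_mul_s0, kk_mul, hs]
    ring
  have e4 : ∑ x : Md, af (lam lV) (chi cV vF) x * conj (χ (kk E x)) = 0 := by
    have e5 : (1 - om) * ∑ x : Md, af (lam lV) (chi cV vF) x * conj (χ (kk E x)) = 0 := by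
      linear_combination e3
    rcases mul_eq_zero.1 e5 with h | h
    · exact absurd (sub_eq_zero.1 h).symm om_ne_one
    · exact h
  rw [e1, e2, e4, mul_zero]

end

/-- **Main result.** -/
theorem exists_normal {G : Type*} [Group G] [Finite G] {H : Subgroup G} {E : H ≃* Md} (F : Fus3 E) :
    ∃ N : Subgroup G, N.Normal ∧ kk E xv ∈ N ∧ kk E ⟨0, s0⟩ ∉ N := by
  classical
  have := Fintype.ofFinite G
  have := Fintype.ofFinite H
  obtain ⟨χ, h1, h2, h3⟩ := exists_chi F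
  have hmul := fun {g : G} (hg : (χ : G → ℂ) g = (χ : G → ℂ) 1) =>
    OddOrderCharacters.PF4b.Prime.char_mul_of_ker (isIrr_isCharacter χ.2) hg
  let N : Subgroup G :=
    { carrier := {g | (χ : G → ℂ) g = (χ : G → ℂ) 1}
      one_mem' := rfl
      mul_mem' := by
        intro a b ha hb
        show (χ : G → ℂ) (a * b) = (χ : G → ℂ) 1
        rw [hmul ha b]
        exact hb
      inv_mem' := by
        intro a ha
        show (χ : G → ℂ) a⁻¹ = (χ : G → ℂ) 1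
        have := hmul ha a⁻¹
        rw [mul_inv_cancel] at this
        exact this.symm }
  refine ⟨N, ⟨?_⟩, ?_, ?_⟩
  · intro n hn g
    show (χ : G → ℂ) (g * n * g⁻¹) = (χ : G → ℂ) 1
    rw [isIrr_isClassFunction χ.2]
    exact hn
  · show (χ : G → ℂ) (kk E xv) = (χ : G → ℂ) 1
    rw [h1, h2]
  · intro hs
    have h4 : classInner (YY3 E cycF.ch) χ = 0 := by
      apply inner_F_zero χ.2
      intro g
      have hs' : (χ : G → ℂ) (kk E ⟨0, s0⟩) = (χ : G → ℂ) 1 := hs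
      have h5 := hmul hs' g
      have h6 := isIrr_isClassFunction χ.2 (g * kk E ⟨0, s0⟩) (kk E ⟨0, s0⟩)
      rw [← h6, ← h5]
      group
    rw [h3] at h4
    exact one_ne_zero h4

end Cfsg.Agent.H431.Alt
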