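import Mathlib
import Cfsg.Agent.H431.AltAlg

/-!
# The lattice argument for the exceptional characters of a group with a subgroup `3^3 : S_4`
-/

set_option autoImplicit false

namespace Cfsg.Agent.H431.Alt

variable {ι : Type*} [Fintype ι]

/-- the standard inner product of `ℤ^ι` -/
def ip (x y : ι → ℤ) : ℤ := ∑ i, x i * y i

theorem ip_comm (x y : ι → ℤ) : ip x y = ip y x := by
  unfold ip
  exact Finset.sum_congr rfl fun i _ => mul_comm _ _

theorem ip_add_left (x y z : ι → ℤ) : ip (x + y) z = ip x z + ip y z := by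
  unfold ip
  rw [← Finset.sum_add_distrib]
  exact Finset.sum_congr rfl fun i _ => add_mul _ _ _

theorem ip_sub_left (x y z : ι → ℤ) : ip (x - y) z = ip x z - ip y z := by
  unfold ip
  rw [← Finset.sum_sub_distrib]
  exact Finset.sum_congr rfl fun i _ => sub_mul _ _ _

theorem ip_neg_left (x z : ι → ℤ) : ip (-x) z = - ip x z := by
  unfold ip
  rw [← Finset.sum_neg_distrib]
  exact Finset.sum_congr rfl fun i _ => neg_mul _ _

theorem ip_smul_left (c : ℤ) (x z : ι → ℤ) : ip (c • x) z = c * ip x z := by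
  unfold ip
  rw [Finset.mul_sum]
  exact Finset.sum_congr rfl fun i _ => by simp [mul_assoc]

theorem ip_add_right (x y z : ι → ℤ) : ip z (x + y) = ip z x + ip z y := by
  rw [ip_comm, ip_add_left, ip_comm x, ip_comm y]

theorem ip_sub_right (x y z : ι → ℤ) : ip z (x - y) = ip z x - ip z y := by
  rw [ip_comm, ip_sub_left, ip_comm x, ip_comm y]

theorem ip_neg_right (x z : ι → ℤ) : ip z (-x) = - ip z x := by
  rw [ip_comm, ip_neg_left, ip_comm]

theorem ip_smul_right (c : ℤ) (x z : ι → ℤ) : ip z (c • x) = c * ip z x := by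
  rw [ip_comm, ip_smul_left, ip_comm]

theorem ip_self_nonneg (x : ι → ℤ) : 0 ≤ ip x x :=
  Finset.sum_nonneg fun i _ => mul_self_nonneg _

theorem eq_zero_of_ip_self {x : ι → ℤ} (h : ip x x = 0) : x = 0 := by
  unfold ip at h
  rw [Finset.sum_eq_zero_iff_of_nonneg (fun _ _ => mul_self_nonneg _)] at h
  funext i
  exact mul_self_eq_zero.1 (h i (Finset.mem_univ i))

/-- Bessel's inequality -/
theorem ip_bessel {κ : Type*} [Fintype κ] [DecidableEq κ] (u : κ → ι → ℤ)
    (hu : ∀ a b, ip (u a) (u b) = if a = b then 1 else 0) (m : ι → ℤ) :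
    ∑ a, ip m (u a) ^ 2 ≤ ip m m := by
  have hsum : ∀ (c : κ → ℤ) (z : ι → ℤ), ip z (∑ a, c a • u a) = ∑ a, c a * ip z (u a) := by
    intro c z
    unfold ip
    simp only [Finset.sum_apply, Pi.smul_apply, smul_eq_mul, Finset.mul_sum]
    rw [Finset.sum_comm]
    refine Finset.sum_congr rfl fun a _ => Finset.sum_congr rfl fun i _ => ?_
    ring
  have h1 := ip_self_nonneg (m - ∑ a, ip m (u a) • u a)
  rw [ip_sub_left, ip_sub_right, ip_sub_right, hsum, ip_comm (∑ a, ip m (u a) • u a) m, hsum,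
    hsum] at h1
  have h2 : ∀ b, ip (∑ a, ip m (u a) • u a) (u b) = ip m (u b) := by
    intro b
    rw [ip_comm, hsum]
    rw [Finset.sum_congr rfl fun a _ => by rw [hu b a]]
    simp
  simp_rw [h2] at h1
  have h3 : ∑ a, ip m (u a) ^ 2 = ∑ a, ip m (u a) * ip m (u a) :=
    Finset.sum_congr rfl fun a _ => sq _
  rw [h3]
  linarith

section

variable [DecidableEq ι]

/-- vectors of norm 1 -/
theorem unit_cases {x : ι → ℤ} (h : ip x x = 1) : ∃ i, x = Pi.single i 1 ∨ x = - Pi.single i 1 := by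
  have h1 : ∃ i, x i ≠ 0 := by
    by_contra hcon
    push Not at hcon
    unfold ip at h
    rw [Finset.sum_eq_zero (fun i _ => by rw [hcon i, mul_zero])] at h
    exact absurd h (by decide)
  obtain ⟨i, hi⟩ := h1
  have h2 : x i * x i + ∑ j ∈ Finset.univ.erase i, x j * x j = 1 := by
    rw [← h]
    exact Finset.add_sum_erase _ (fun j => x j * x j) (Finset.mem_univ i)
  have h3 : 0 ≤ ∑ j ∈ Finset.univ.erase i, x j * x j := Finset.sum_nonneg fun j _ => mul_self_nonneg _
  have h4 : 1 ≤ x i * x i := by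
    rcases lt_or_gt_of_ne hi with h | h <;> nlinarith
  have h5 : x i * x i = 1 := by omega
  have h6 : ∑ j ∈ Finset.univ.erase i, x j * x j = 0 := by omega
  rw [Finset.sum_eq_zero_iff_of_nonneg (fun j _ => mul_self_nonneg _)] at h6
  have h7 : ∀ j, j ≠ i → x j = 0 := fun j hj =>
    mul_self_eq_zero.1 (h6 j (Finset.mem_erase.2 ⟨hj, Finset.mem_univ j⟩))
  refine ⟨i, ?_⟩
  rcases Int.isUnit_iff.1 (IsUnit.of_mul_eq_one _ h5) with h8 | h8
  · left
    funext j
    by_cases hj : j = i
    · subst hj; simp [h8]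
    · rw [h7 j hj]; simp [hj]
  · right
    funext j
    by_cases hj : j = i
    · subst hj; simp [h8]
    · rw [h7 j hj]; simp [hj]

/-- vectors of norm 2 -/
theorem two_cases {x : ι → ℤ} (h : ip x x = 2) : ∃ u v, ip u u = 1 ∧ ip v v = 1 ∧ ip u v = 0 ∧
    x = u + v := by
  have h1 : ∃ i, x i ≠ 0 := by
    by_contra hcon
    push Not at hcon
    unfold ip at h
    rw [Finset.sum_eq_zero (fun i _ => by rw [hcon i, mul_zero])] at h
    exact absurd h (by decide)
  obtain ⟨i, hi⟩ := h1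
  have h2 : x i * x i ≤ 2 := by
    rw [← h]
    exact Finset.single_le_sum (f := fun j => x j * x j) (fun j _ => mul_self_nonneg _) (Finset.mem_univ i)
  have h5 : x i * x i = 1 := by
    have h3 : x i ≤ 1 := by nlinarith
    have h4 : -1 ≤ x i := by nlinarith
    have : x i = 1 ∨ x i = -1 := by omega
    rcases this with h | h <;> rw [h] <;> norm_num
  have h6 : ∀ y : ι → ℤ, ip (Pi.single i (x i)) y = x i * y i := by
    intro y
    unfold ip
    rw [Finset.sum_eq_single i]
    · simp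
    · intro j _ hj
      simp [hj]
    · intro h; exact absurd (Finset.mem_univ i) h
  refine ⟨Pi.single i (x i), x - Pi.single i (x i), ?_, ?_, ?_, by simp⟩
  · rw [h6]; simpa using h5
  · rw [ip_sub_left, ip_sub_right, ip_sub_right, ip_comm x (Pi.single i (x i)), h6, h6, h]
    simp only [Pi.single_eq_same]
    rw [h5]; norm_num
  · rw [ip_sub_right, h6, h6]
    simp

/-- splitting of a vector of norm 2 -/
theorem split {β B : ι → ℤ} (hβ : ip β β = 2) (hB : ip B B ≤ 3) (h : ip B β = -1) :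
    ∃ x x', ip x x = 1 ∧ ip x' x' = 1 ∧ ip x x' = 0 ∧ β = x - x' ∧ ip B x = -1 ∧ ip B x' = 0 := by
  obtain ⟨u, v, hu, hv, huv, rfl⟩ := two_cases hβ
  have h1 := ip_self_nonneg (B - ip B u • u)
  have h2 := ip_self_nonneg (B - ip B v • v)
  simp only [ip_sub_left, ip_sub_right, ip_smul_left, ip_smul_right, hu, hv, ip_comm u B,
    ip_comm v B] at h1 h2
  rw [ip_add_right] at h
  have h3 : ip B u ≤ 1 := by nlinarith
  have h4 : -1 ≤ ip B u := by nlinarith
  have h5 : ip B v ≤ 1 := by nlinarith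
  have h6 : -1 ≤ ip B v := by nlinarith
  have h7 : (ip B u = -1 ∧ ip B v = 0) ∨ (ip B u = 0 ∧ ip B v = -1) := by omega
  rcases h7 with ⟨e1, e2⟩ | ⟨e1, e2⟩
  · refine ⟨u, -v, hu, ?_, ?_, by abel, e1, ?_⟩
    · rw [ip_neg_left, ip_neg_right, hv]; norm_num
    · rw [ip_neg_right, huv]; norm_num
    · rw [ip_neg_right, e2]; norm_num
  · refine ⟨v, -u, hv, ?_, ?_, by abel, e2, ?_⟩
    · rw [ip_neg_left, ip_neg_right, hu]; norm_num
    · rw [ip_neg_right, ip_comm, huv]; norm_num
    · rw [ip_neg_right, e1]; norm_num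

end

end Cfsg.Agent.H431.Alt
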