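import Mathlib
import Cfsg.Agent.H431.AltLat

/-!
# The decomposition of the exceptional characters
-/

set_option autoImplicit false

namespace Cfsg.Agent.H431.Alt

variable {ι : Type*} [Fintype ι]

theorem bes2 {u v : ι → ℤ} (hu : ip u u = 1) (hv : ip v v = 1) (huv : ip u v = 0) (w : ι → ℤ) :
    ip w u ^ 2 + ip w v ^ 2 ≤ ip w w := by
  have h := ip_self_nonneg (w - ip w u • u - ip w v • v)
  simp only [ip_sub_left, ip_sub_right, ip_smul_left, ip_smul_right, hu, hv, huv, ip_comm v u,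
    ip_comm u w, ip_comm v w] at h
  nlinarith

theorem bes3 {u v t : ι → ℤ} (hu : ip u u = 1) (hv : ip v v = 1) (ht : ip t t = 1)
    (huv : ip u v = 0) (hut : ip u t = 0) (hvt : ip v t = 0) (w : ι → ℤ) :
    ip w u ^ 2 + ip w v ^ 2 + ip w t ^ 2 ≤ ip w w := by
  have h := ip_self_nonneg (w - ip w u • u - ip w v • v - ip w t • t)
  simp only [ip_sub_left, ip_sub_right, ip_smul_left, ip_smul_right, hu, hv, ht, huv, hut, hvt,
    ip_comm v u, ip_comm t u, ip_comm t v, ip_comm u w, ip_comm v w, ip_comm t w] at h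
  nlinarith

section

variable {F : Type*} [Field F]

/-- the linear functional with coefficients `c` -/
def lin (c : ι → F) (m : ι → ℤ) : F := ∑ i, (m i : F) * c i

theorem lin_add (c : ι → F) (m n : ι → ℤ) : lin c (m + n) = lin c m + lin c n := by
  unfold lin
  rw [← Finset.sum_add_distrib]
  exact Finset.sum_congr rfl fun i _ => by simp [add_mul]

theorem lin_sub (c : ι → F) (m n : ι → ℤ) : lin c (m - n) = lin c m - lin c n := by
  unfold lin
  rw [← Finset.sum_sub_distrib]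
  exact Finset.sum_congr rfl fun i _ => by simp [sub_mul]

theorem lin_neg (c : ι → F) (m : ι → ℤ) : lin c (-m) = - lin c m := by
  unfold lin
  rw [← Finset.sum_neg_distrib]
  exact Finset.sum_congr rfl fun i _ => by simp

theorem lin_smul (c : ι → F) (a : ℤ) (m : ι → ℤ) : lin c (a • m) = a * lin c m := by
  unfold lin
  rw [Finset.mul_sum]
  exact Finset.sum_congr rfl fun i _ => by simp [mul_assoc]

theorem lin_sub_smul (c : ι → F) (a : F) (f : ι → ℤ) (m : ι → ℤ) :
    lin (fun i => c i - a * f i) m = lin c m - a * (ip m f : F) := by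
  unfold lin ip
  push_cast
  rw [Finset.mul_sum, ← Finset.sum_sub_distrib]
  exact Finset.sum_congr rfl fun i _ => by ring

/-- the quadratic functional -/
def Phi (f : ι → ℤ) (c d : ι → F) (m : ι → ℤ) : F := lin (fun i => c i * d i / (f i : F)) m

theorem Phi_shift [CharZero F] {f : ι → ℤ} (hf : ∀ i, 0 < f i) (c d : ι → F) (a b : F) {m : ι → ℤ}
    (h1 : ip m f = 0) (h2 : lin c m = 0) (h3 : lin d m = 0) :
    Phi f (fun i => c i - a * f i) (fun i => d i - b * f i) m = Phi f c d m := by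
  have h4 : ∀ i, (m i : F) * ((c i - a * f i) * (d i - b * f i) / (f i : F)) =
      (m i : F) * (c i * d i / (f i : F)) - b * ((m i : F) * c i) - a * ((m i : F) * d i) +
        a * b * ((m i * f i : ℤ) : F) := by
    intro i
    have : (f i : F) ≠ 0 := by exact_mod_cast (hf i).ne'
    field_simp
    push_cast
    ring
  unfold Phi
  have h5 : ∑ i, ((m i * f i : ℤ) : F) = 0 := by
    unfold ip at h1
    exact_mod_cast h1
  unfold lin at h2 h3 ⊢
  rw [Finset.sum_congr rfl fun i _ => h4 i, Finset.sum_add_distrib, Finset.sum_sub_distrib,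
    Finset.sum_sub_distrib, ← Finset.mul_sum, ← Finset.mul_sum, ← Finset.mul_sum, h2, h3, h5]
  ring

theorem Phi_add (f : ι → ℤ) (c d : ι → F) (m n : ι → ℤ) :
    Phi f c d (m + n) = Phi f c d m + Phi f c d n := lin_add _ _ _

theorem Phi_sub (f : ι → ℤ) (c d : ι → F) (m n : ι → ℤ) :
    Phi f c d (m - n) = Phi f c d m - Phi f c d n := lin_sub _ _ _

theorem Phi_neg (f : ι → ℤ) (c d : ι → F) (m : ι → ℤ) :
    Phi f c d (-m) = - Phi f c d m := lin_neg _ _

theorem Phi_smul (f : ι → ℤ) (c d : ι → F) (a : ℤ) (m : ι → ℤ) :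
    Phi f c d (a • m) = a * Phi f c d m := lin_smul _ _ _

variable [DecidableEq ι]

theorem lin_single (c : ι → F) (i : ι) : lin c (Pi.single i 1) = c i := by
  unfold lin
  rw [Finset.sum_eq_single i]
  · simp
  · intro j _ hj
    simp [hj]
  · intro h; exact absurd (Finset.mem_univ i) h

theorem ip_single (i : ι) (y : ι → ℤ) : ip y (Pi.single i 1) = y i := by
  unfold ip
  rw [Finset.sum_eq_single i]
  · simp
  · intro j _ hj
    simp [hj]
  · intro h; exact absurd (Finset.mem_univ i) h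

theorem ip_ne_zero {f : ι → ℤ} (hf : ∀ i, 0 < f i) {u : ι → ℤ} (hu : ip u u = 1) : ip u f ≠ 0 := by
  obtain ⟨i, rfl | rfl⟩ := unit_cases hu
  · rw [ip_comm, ip_single]; exact (hf i).ne'
  · rw [ip_neg_left, ip_comm, ip_single]; exact neg_ne_zero.2 (hf i).ne'

theorem Phi_unit {f : ι → ℤ} (c d : ι → F) {u : ι → ℤ} (hu : ip u u = 1) :
    Phi f c d u = lin c u * lin d u / (ip u f : F) := by
  obtain ⟨i, rfl | rfl⟩ := unit_cases hu
  · rw [Phi, lin_single, lin_single, lin_single, ip_comm, ip_single]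
  · rw [Phi_neg, Phi, lin_neg, lin_neg, lin_single, lin_single, lin_single, ip_neg_left, ip_comm,
      ip_single]
    push_cast
    rw [neg_mul_neg, div_neg]

end

/-- The data: inner products, values and class sums of the six generalized characters. -/
structure Dat {F : Type*} [Field F] [DecidableEq ι] (o : ι) (f : ι → ℤ) (g h : ι → F) (l k : F)
    (β γ A B P R : ι → ℤ) : Prop where
  fpos : ∀ i, 0 < f i
  fo : f o = 1
  l0 : l ≠ 0
  k0 : k ≠ 0
  bb : ip β β = 2
  cc : ip γ γ = 2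
  AA : ip A A = 3
  BB : ip B B = 3
  PP : ip P P = 4
  RR : ip R R = 4
  bc : ip β γ = 0
  Ab : ip A β = 0
  Ac : ip A γ = -1
  Bb : ip B β = -1
  Bc : ip B γ = 1
  AB : ip A B = -1
  Pb : ip P β = 1
  Pc : ip P γ = 0
  PA : ip P A = -1
  PB : ip P B = -1
  Rb : ip R β = 1
  Rc : ip R γ = 0
  RA : ip R A = 1
  RB : ip R B = -1
  RP : ip R P = 1
  bo : β o = 0
  co : γ o = 0
  Ao : A o = 0
  Bo : B o = 0
  Po : P o = 1
  Ro : R o = 1
  fb : ip β f = 0
  fc : ip γ f = 0
  fA : ip A f = 0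
  fB : ip B f = 0
  fP : ip P f = 0
  fR : ip R f = 0
  gb : lin g β = 0
  gc : lin g γ = 0
  gA : lin g A = 0
  gB : lin g B = 0
  gP : lin g P = 0
  gR : lin g R = 0
  hb : lin h β = 0
  hc : lin h γ = 0
  hA : lin h A = 0
  hB : lin h B = 0
  hP : lin h P = 0
  hR : lin h R = 0
  Agg : Phi f g g A = 0
  Ahh : Phi f h h A = 2 * k ^ 2
  Bgg : Phi f g g B = 2 * l ^ 2
  Bhh : Phi f h h B = 0
  Pgg : Phi f g g P = 0
  Pgh : Phi f g h P = 2 * (l * k)
  Phh : Phi f h h P = 2 * k ^ 2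
  Rgg : Phi f g g R = l ^ 2
  Rgh : Phi f g h R = l * k

namespace Dat

variable {F : Type*} [Field F] [CharZero F] [DecidableEq ι] {o : ι} {f : ι → ℤ} {g h : ι → F} {l k : F}
  {β γ A B P R : ι → ℤ}

/-- shifting the two functionals -/
theorem shift (D : Dat o f g h l k β γ A B P R) (a b : F) :
    Dat o f (fun i => g i - a * f i) (fun i => h i - b * f i) l k β γ A B P R :=
  { D with
    gb := by rw [lin_sub_smul, D.gb, D.fb]; simp
    gc := by rw [lin_sub_smul, D.gc, D.fc]; simp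
    gA := by rw [lin_sub_smul, D.gA, D.fA]; simp
    gB := by rw [lin_sub_smul, D.gB, D.fB]; simp
    gP := by rw [lin_sub_smul, D.gP, D.fP]; simp
    gR := by rw [lin_sub_smul, D.gR, D.fR]; simp
    hb := by rw [lin_sub_smul, D.hb, D.fb]; simp
    hc := by rw [lin_sub_smul, D.hc, D.fc]; simp
    hA := by rw [lin_sub_smul, D.hA, D.fA]; simp
    hB := by rw [lin_sub_smul, D.hB, D.fB]; simp
    hP := by rw [lin_sub_smul, D.hP, D.fP]; simp
    hR := by rw [lin_sub_smul, D.hR, D.fR]; simp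
    Agg := by rw [Phi_shift D.fpos _ _ _ _ D.fA D.gA D.gA, D.Agg]
    Ahh := by rw [Phi_shift D.fpos _ _ _ _ D.fA D.hA D.hA, D.Ahh]
    Bgg := by rw [Phi_shift D.fpos _ _ _ _ D.fB D.gB D.gB, D.Bgg]
    Bhh := by rw [Phi_shift D.fpos _ _ _ _ D.fB D.hB D.hB, D.Bhh]
    Pgg := by rw [Phi_shift D.fpos _ _ _ _ D.fP D.gP D.gP, D.Pgg]
    Pgh := by rw [Phi_shift D.fpos _ _ _ _ D.fP D.gP D.hP, D.Pgh]
    Phh := by rw [Phi_shift D.fpos _ _ _ _ D.fP D.hP D.hP, D.Phh]
    Rgg := by rw [Phi_shift D.fpos _ _ _ _ D.fR D.gR D.gR, D.Rgg]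
    Rgh := by rw [Phi_shift D.fpos _ _ _ _ D.fR D.gR D.hR, D.Rgh] }

end Dat

end Cfsg.Agent.H431.Alt
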