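import Mathlib
import Cfsg.Agent.H431.AltFrame

/-!
# The decomposition of the exceptional characters, second part
-/

set_option autoImplicit false

namespace Cfsg.Agent.H431.Alt

variable {ι : Type*} [Fintype ι]

theorem int_small {a : ℤ} (h : a ^ 2 ≤ 1) : a = -1 ∨ a = 0 ∨ a = 1 := by
  have h1 : a ≤ 1 := by nlinarith
  have h2 : -1 ≤ a := by nlinarith
  omega

theorem eq_neg_of_ip {w t : ι → ℤ} (hw : ip w w = 1) (ht : ip t t = 1) (h : ip w t = -1) :
    w = -t := by
  have h4 : ip (w + t) (w + t) = 0 := by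
    rw [ip_add_left, ip_add_right, ip_add_right, ip_comm t w, h, hw, ht]; norm_num
  exact eq_neg_of_add_eq_zero_left (eq_zero_of_ip_self h4)

theorem eq_of_ip {w t : ι → ℤ} (hw : ip w w = 1) (ht : ip t t = 1) (h : ip w t = 1) :
    w = t := by
  have h4 : ip (w - t) (w - t) = 0 := by
    rw [ip_sub_left, ip_sub_right, ip_sub_right, ip_comm t w, h, hw, ht]; norm_num
  exact sub_eq_zero.1 (eq_zero_of_ip_self h4)

namespace Dat

variable {F : Type*} [Field F] [CharZero F] [DecidableEq ι] {o : ι} {f : ι → ℤ} {g h : ι → F} {l k : F}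
  {β γ A B P R : ι → ℤ}

set_option maxHeartbeats 2000000 in
/-- the frame of orthonormal vectors occurring in `β`, `γ`, `A`, `B` -/
theorem exists_frame (D : Dat o f g h l k β γ A B P R) :
    ∃ x x' y y' r s e : ι → ℤ, ip x x = 1 ∧ ip x' x' = 1 ∧ ip y y = 1 ∧ ip y' y' = 1 ∧
      ip r r = 1 ∧ ip s s = 1 ∧ ip e e = 1 ∧ ip x x' = 0 ∧ ip x y = 0 ∧ ip x y' = 0 ∧
      ip x r = 0 ∧ ip x s = 0 ∧ ip x e = 0 ∧ ip x' y = 0 ∧ ip x' y' = 0 ∧ ip x' r = 0 ∧
      ip x' s = 0 ∧ ip x' e = 0 ∧ ip y y' = 0 ∧ ip y r = 0 ∧ ip y s = 0 ∧ ip y e = 0 ∧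
      ip y' r = 0 ∧ ip y' s = 0 ∧ ip y' e = 0 ∧ ip r s = 0 ∧ ip r e = 0 ∧ ip s e = 0 ∧
      β = x - x' ∧ γ = y - y' ∧ A = r + s - y ∧ B = y - x + e := by
  obtain ⟨x, x', hx, hx', hxx', hβ, hBx, hBx'⟩ := split D.bb (by rw [D.BB]) D.Bb
  obtain ⟨y, y', hy, hy', hyy', hγ, hAy, hAy'⟩ := split D.cc (by rw [D.AA]) D.Ac
  have hfx : ip x f = ip x' f := by
    have := D.fb
    rw [hβ, ip_sub_left] at this
    linarith
  have hhx : lin h x = lin h x' := by
    have := D.hb
    rw [hβ, lin_sub] at this
    linear_combination this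
  have hfy : ip y f = ip y' f := by
    have := D.fc
    rw [hγ, ip_sub_left] at this
    linarith
  have hgy : lin g y = lin g y' := by
    have := D.gc
    rw [hγ, lin_sub] at this
    linear_combination this
  have fx0 : (ip x f : F) ≠ 0 := by exact_mod_cast ip_ne_zero D.fpos hx
  -- `A ⟂ x`
  have hAx' : ip A x = ip A x' := by
    have := D.Ab
    rw [hβ, ip_sub_right] at this
    linarith
  have hAx : ip A x = 0 := by
    by_contra hne
    have h1 := bes2 hx hx' hxx' A
    rw [← hAx', D.AA] at h1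
    have h2 : ip A x ^ 2 = 1 := by
      rcases int_small (by linarith : ip A x ^ 2 ≤ 1) with h | h | h
      · rw [h]; norm_num
      · exact absurd h hne
      · rw [h]; norm_num
    obtain ⟨c, hc⟩ : ∃ c, c = ip A x := ⟨_, rfl⟩
    rw [← hc] at h2
    have hw : ip (A - c • x - c • x') (A - c • x - c • x') = 1 := by
      simp only [ip_sub_left, ip_sub_right, ip_smul_left, ip_smul_right, hx, hx', hxx',
        ip_comm x' x, ip_comm x A, ip_comm x' A, ← hAx', ← hc, D.AA]
      linarith
    have hA : A = (A - c • x - c • x') + (c • x + c • x') := by abel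
    have h3 := D.Ahh
    have h4 := D.fA
    have h5 := D.hA
    rw [hA] at h3 h4 h5
    rw [Phi_add, Phi_add, Phi_smul, Phi_smul, Phi_unit _ _ hw, Phi_unit _ _ hx, Phi_unit _ _ hx'] at h3
    rw [ip_add_left, ip_add_left, ip_smul_left, ip_smul_left] at h4
    rw [lin_add, lin_add, lin_smul, lin_smul] at h5
    rw [← hfx] at h3 h4
    rw [← hhx] at h3 h5
    have h6 : ip (A - c • x - c • x') f = - (2 * c * ip x f) := by linarith
    have h7 : lin h (A - c • x - c • x') = - (2 * c * lin h x) := by linear_combination h5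
    rw [h6, h7] at h3
    have hc0 : (c : F) ≠ 0 := by
      intro h
      have : c = 0 := by exact_mod_cast h
      rw [this] at h2
      exact absurd h2 (by norm_num)
    have hk : 2 * k ^ 2 = 0 := by
      rw [← h3]
      push_cast
      field_simp
      ring
    exact mul_ne_zero two_ne_zero (pow_ne_zero 2 D.k0) hk
  rw [hAx] at hAx'
  -- the constituents of `A`
  have hAy2 : ip (A + y) (A + y) = 2 := by
    simp only [ip_add_left, ip_add_right, ip_comm y A, hAy, hy, D.AA]
    norm_num
  obtain ⟨r, s, hr, hs, hrs, hA⟩ := two_cases hAy2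
  have hA' : A = r + s - y := by rw [← hA]; abel
  have hry : ip y r = 0 ∧ ip y s = 0 := by
    have h1 := bes2 hr hs hrs y
    have h2 : ip y (r + s) = 0 := by
      rw [← hA, ip_add_right, ip_comm, hAy, hy]; norm_num
    rw [ip_add_right] at h2
    rw [hy] at h1
    rcases int_small (by nlinarith [sq_nonneg (ip y s)] : ip y r ^ 2 ≤ 1) with h | h | h
    · have : ip y s = 1 := by omega
      rw [h, this] at h1; norm_num at h1
    · exact ⟨h, by omega⟩
    · have : ip y s = -1 := by omega
      rw [h, this] at h1; norm_num at h1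
  -- a unit vector orthogonal to `A` is orthogonal to `r`, `s`, `y`
  have key : ∀ w : ι → ℤ, ip w w = 1 → ip A w = 0 → ip w r = 0 ∧ ip w s = 0 ∧ ip w y = 0 := by
    intro w hw h1
    have h2 := bes3 hr hs hy hrs (by rw [ip_comm]; exact hry.1) (by rw [ip_comm]; exact hry.2) w
    rw [hw] at h2
    rw [hA', ip_sub_left, ip_add_left, ip_comm r w, ip_comm s w, ip_comm y w] at h1
    have e1 := int_small (by nlinarith [sq_nonneg (ip w s), sq_nonneg (ip w y)] : ip w r ^ 2 ≤ 1)
    have e2 := int_small (by nlinarith [sq_nonneg (ip w r), sq_nonneg (ip w y)] : ip w s ^ 2 ≤ 1)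
    have e3 := int_small (by nlinarith [sq_nonneg (ip w r), sq_nonneg (ip w s)] : ip w y ^ 2 ≤ 1)
    rcases e1 with e1 | e1 | e1 <;> rcases e2 with e2 | e2 | e2 <;> rcases e3 with e3 | e3 | e3 <;>
      first
      | exact ⟨e1, e2, e3⟩
      | (exfalso; rw [e1, e2, e3] at h1; omega)
      | (exfalso; rw [e1, e2, e3] at h2; norm_num at h2)
  obtain ⟨hxr, hxs, hxy⟩ := key x hx hAx
  obtain ⟨hx'r, hx's, hx'y⟩ := key x' hx' hAx'.symm
  obtain ⟨hy'r, hy's, -⟩ := key y' hy' hAy'
  -- `x ⟂ y'`
  have hxy' : ip x y' = 0 ∧ ip x' y' = 0 := by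
    have h1 := D.bc
    rw [hβ, hγ, ip_sub_left, ip_sub_right, ip_sub_right, hxy, hx'y] at h1
    have h2 := bes2 hx hx' hxx' y'
    rw [hy', ip_comm y' x, ip_comm y' x'] at h2
    have h3 : ip x' y' = ip x y' := by linarith
    rw [h3] at h2 ⊢
    have h4 : ip x y' = 0 := by
      rcases int_small (by nlinarith : ip x y' ^ 2 ≤ 1) with h | h | h
      · rw [h] at h2; norm_num at h2
      · exact h
      · rw [h] at h2; norm_num at h2
    exact ⟨h4, h4⟩
  have hBy : ip B y - ip B y' = 1 := by
    rw [← ip_sub_right, ← hγ]; exact D.Bc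
  have hBy1 : (ip B y = 1 ∧ ip B y' = 0) ∨ (ip B y = 0 ∧ ip B y' = -1) := by
    have h1 := bes2 hy hy' hyy' B
    rw [D.BB] at h1
    have h3 : ip B y ≤ 1 := by nlinarith
    have h4 : -1 ≤ ip B y := by nlinarith
    have h5 : ip B y' ≤ 1 := by nlinarith
    have h6 : -1 ≤ ip B y' := by nlinarith
    omega
  rcases hBy1 with ⟨hBy, hBy'⟩ | ⟨hBy, hBy'⟩
  · -- the natural case
    have he : ip (B + x - y) (B + x - y) = 1 := by
      simp only [ip_add_left, ip_add_right, ip_sub_left, ip_sub_right, ip_comm x B, ip_comm y B,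
        ip_comm y x, hBx, hBy, hxy, hx, hy, D.BB]
      norm_num
    have hAe : ip A (B + x - y) = 0 := by
      rw [ip_sub_right, ip_add_right, D.AB, hAx, hAy]; norm_num
    obtain ⟨her, hes, hey⟩ := key _ he hAe
    refine ⟨x, x', y, y', r, s, B + x - y, hx, hx', hy, hy', hr, hs, he, hxx', hxy, hxy'.1, hxr, hxs,
      ?_, hx'y, hxy'.2, hx'r, hx's, ?_, hyy', hry.1, hry.2, ?_, hy'r, hy's, ?_, hrs, ?_, ?_, hβ, hγ,
      hA', by abel⟩
    · rw [ip_sub_right, ip_add_right, ip_comm x B, hBx, hx, hxy]; norm_num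
    · rw [ip_sub_right, ip_add_right, ip_comm x' B, hBx', ip_comm x' x, hxx', hx'y]; norm_num
    · rw [ip_comm]; exact hey
    · rw [ip_sub_right, ip_add_right, ip_comm y' B, hBy', ip_comm y' x, hxy'.1, ip_comm y' y, hyy']
      norm_num
    · rw [ip_comm]; exact her
    · rw [ip_comm]; exact hes
  · -- the excluded case
    exfalso
    have he : ip (B + x + y') (B + x + y') = 1 := by
      simp only [ip_add_left, ip_add_right, ip_comm x B, ip_comm y' B,
        ip_comm y' x, hBx, hBy', hxy'.1, hx, hy', D.BB]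
      norm_num
    have hAe : ip A (B + x + y') = -1 := by
      rw [ip_add_right, ip_add_right, D.AB, hAx, hAy']; norm_num
    have hye : ip (B + x + y') y = 0 := by
      rw [ip_add_left, ip_add_left, hBy, hxy, ip_comm y' y, hyy']; norm_num
    have h1 : ip (B + x + y') r + ip (B + x + y') s = -1 := by
      rw [hA', ip_sub_left, ip_add_left, ip_comm y, hye, ip_comm r, ip_comm s] at hAe
      linarith
    have h2 := bes2 hr hs hrs (B + x + y')
    rw [he] at h2
    -- values of `g` on `r`, `s`, `y`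
    have hY := ip_ne_zero D.fpos hs
    have hX := ip_ne_zero D.fpos hr
    have hZ := ip_ne_zero D.fpos hy
    have hfA := D.fA
    have hgA := D.gA
    have hPA := D.Agg
    rw [hA', ip_sub_left, ip_add_left] at hfA
    rw [hA', lin_sub, lin_add] at hgA
    rw [hA', Phi_sub, Phi_add, Phi_unit _ _ hr, Phi_unit _ _ hs, Phi_unit _ _ hy] at hPA
    have hX' : (ip r f : F) ≠ 0 := by exact_mod_cast hX
    have hY' : (ip s f : F) ≠ 0 := by exact_mod_cast hY
    have hZ' : (ip y f : F) ≠ 0 := by exact_mod_cast hZ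
    have hfA' : (ip y f : F) = ip r f + ip s f := by
      have : ip y f = ip r f + ip s f := by linarith
      rw [this]; push_cast; ring
    have hgA' : lin g y = lin g r + lin g s := by linear_combination -hgA
    have hratio : lin g r * (ip s f : F) = lin g s * (ip r f : F) := by
      have h3 : (lin g r * (ip s f : F) - lin g s * (ip r f : F)) ^ 2 = 0 := by
        rw [hfA', hgA'] at hPA
        rw [hfA'] at hZ'
        field_simp at hPA
        linear_combination hPA
      have h4 := pow_eq_zero_iff (two_ne_zero) |>.1 h3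
      linear_combination h4
    have hry' : lin g r * (ip y f : F) = lin g y * (ip r f : F) := by
      rw [hfA', hgA']; linear_combination hratio
    have hsy' : lin g s * (ip y f : F) = lin g y * (ip s f : F) := by
      rw [hfA', hgA']; linear_combination -hratio
    -- the final contradiction
    have fin : ∀ t : ι → ℤ, ip t t = 1 → lin g t * (ip y f : F) = lin g y * (ip t f : F) →
        B = - t - x - y' → False := by
      intro t ht hty hB
      have ht0 : (ip t f : F) ≠ 0 := by exact_mod_cast ip_ne_zero D.fpos ht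
      have h3 := D.fB
      have h4 := D.gB
      have h5 := D.Bgg
      rw [hB] at h3 h4 h5
      rw [ip_sub_left, ip_sub_left, ip_neg_left, ← hfy] at h3
      rw [lin_sub, lin_sub, lin_neg, ← hgy] at h4
      rw [Phi_sub, Phi_sub, Phi_neg, Phi_unit _ _ ht, Phi_unit _ _ hx, Phi_unit _ _ hy', ← hgy,
        ← hfy] at h5
      have h6 : (ip x f : F) = - ip t f - ip y f := by
        have : ip x f = - ip t f - ip y f := by linarith
        rw [this]; push_cast; ring
      have h7 : lin g x = - lin g t - lin g y := by linear_combination -h4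
      have h8 : lin g t = lin g y * (ip t f : F) / (ip y f : F) := by
        field_simp; exact hty
      have hl : 2 * l ^ 2 = 0 := by
        rw [← h5, h7, h6, h8]
        rw [h6] at fx0
        field_simp
        ring
      exact mul_ne_zero two_ne_zero (pow_ne_zero 2 D.l0) hl
    have h3 : (ip (B + x + y') r = -1 ∧ ip (B + x + y') s = 0) ∨
        (ip (B + x + y') r = 0 ∧ ip (B + x + y') s = -1) := by
      rcases int_small (by nlinarith [sq_nonneg (ip (B + x + y') s)] : ip (B + x + y') r ^ 2 ≤ 1) with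
        h | h | h
      · left; exact ⟨h, by omega⟩
      · right; exact ⟨h, by omega⟩
      · have : ip (B + x + y') s = -2 := by omega
        rw [h, this] at h2; norm_num at h2
    rcases h3 with ⟨h3, -⟩ | ⟨-, h3⟩
    · apply fin r hr hry'
      rw [← eq_neg_of_ip he hr h3]; abel
    · apply fin s hs hsy'
      rw [← eq_neg_of_ip he hs h3]; abel

end Dat

end Cfsg.Agent.H431.Alt
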