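import Mathlib
import Cfsg.Agent.H431.AltFrame2

/-!
# The decomposition of the exceptional characters, third part
-/

set_option autoImplicit false

namespace Cfsg.Agent.H431.Alt

theorem int_abs_le_one {a : ℤ} (h : a ^ 2 ≤ 3) : a = -1 ∨ a = 0 ∨ a = 1 := by
  have h1 : a ≤ 1 := by nlinarith
  have h2 : -1 ≤ a := by nlinarith
  omega

theorem intP {q1 q2 q3 q4 q5 q6 q7 : ℤ}
    (h : q1 ^ 2 + q2 ^ 2 + q3 ^ 2 + q4 ^ 2 + q5 ^ 2 + q6 ^ 2 + q7 ^ 2 ≤ 3)
    (h1 : q1 - q2 = 1) (h2 : q3 = q4) (h3 : q5 + q6 - q3 = -1) (h4 : q3 - q1 + q7 = -1) :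
    ((q1 = 1 ∧ q2 = 0 ∧ q7 = 0) ∨ (q1 = 0 ∧ q2 = -1 ∧ q7 = -1)) ∧ q3 = 0 ∧ q4 = 0 ∧
      ((q5 = -1 ∧ q6 = 0) ∨ (q5 = 0 ∧ q6 = -1)) := by
  have s1 := sq_nonneg q1
  have s2 := sq_nonneg q2
  have s3 := sq_nonneg q3
  have s4 := sq_nonneg q4
  have s5 := sq_nonneg q5
  have s6 := sq_nonneg q6
  have s7 := sq_nonneg q7
  have e1 := int_abs_le_one (by linarith : q1 ^ 2 ≤ 3)
  have e3 := int_abs_le_one (by linarith : q3 ^ 2 ≤ 3)
  have e5 := int_abs_le_one (by linarith : q5 ^ 2 ≤ 3)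
  clear s1 s2 s3 s4 s5 s6 s7
  obtain rfl : q2 = q1 - 1 := by omega
  obtain rfl : q6 = q3 - 1 - q5 := by omega
  obtain rfl : q7 = q1 - q3 - 1 := by omega
  obtain rfl : q4 = q3 := by omega
  rcases e1 with rfl | rfl | rfl <;> rcases e3 with rfl | rfl | rfl <;>
    rcases e5 with rfl | rfl | rfl <;> first | (norm_num at h; done) | norm_num

theorem intR {q1 q2 q3 q4 q5 q6 q7 : ℤ}
    (h : q1 ^ 2 + q2 ^ 2 + q3 ^ 2 + q4 ^ 2 + q5 ^ 2 + q6 ^ 2 + q7 ^ 2 ≤ 3)
    (h1 : q1 - q2 = 1) (h2 : q3 = q4) (h3 : q5 + q6 - q3 = 1) (h4 : q3 - q1 + q7 = -1) :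
    (((q1 = 1 ∧ q2 = 0 ∧ q7 = 0) ∨ (q1 = 0 ∧ q2 = -1 ∧ q7 = -1)) ∧ q3 = 0 ∧ q4 = 0 ∧
      ((q5 = 1 ∧ q6 = 0) ∨ (q5 = 0 ∧ q6 = 1))) ∨
    (q1 = 0 ∧ q2 = -1 ∧ q3 = -1 ∧ q4 = -1 ∧ q5 = 0 ∧ q6 = 0 ∧ q7 = 0) := by
  have s1 := sq_nonneg q1
  have s2 := sq_nonneg q2
  have s3 := sq_nonneg q3
  have s4 := sq_nonneg q4
  have s5 := sq_nonneg q5
  have s6 := sq_nonneg q6
  have s7 := sq_nonneg q7
  have e1 := int_abs_le_one (by linarith : q1 ^ 2 ≤ 3)
  have e3 := int_abs_le_one (by linarith : q3 ^ 2 ≤ 3)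
  have e5 := int_abs_le_one (by linarith : q5 ^ 2 ≤ 3)
  clear s1 s2 s3 s4 s5 s6 s7
  obtain rfl : q2 = q1 - 1 := by omega
  obtain rfl : q6 = q3 + 1 - q5 := by omega
  obtain rfl : q7 = q1 - q3 - 1 := by omega
  obtain rfl : q4 = q3 := by omega
  rcases e1 with rfl | rfl | rfl <;> rcases e3 with rfl | rfl | rfl <;>
    rcases e5 with rfl | rfl | rfl <;> first | (norm_num at h; done) | norm_num

attribute [local irreducible] ip lin

variable {ι : Type*} [Fintype ι]

/-- the normalized frame -/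
structure Fr {F : Type*} [Field F] [DecidableEq ι] (o : ι) (g h : ι → F)
    (β γ A B : ι → ℤ) (u : Fin 8 → ι → ℤ) : Prop where
  on : ∀ a b, ip (u a) (u b) = if a = b then 1 else 0
  u0 : u 0 = Pi.single o 1
  hβ : β = u 1 - u 2
  hγ : γ = u 3 - u 4
  hA : A = u 5 + u 6 - u 3
  hB : B = u 3 - u 1 + u 7
  g3 : lin g (u 3) = 0
  g5 : lin g (u 5) = 0
  g6 : lin g (u 6) = 0
  h3 : lin h (u 3) = 0
  h7 : lin h (u 7) = 0

namespace Dat

variable {F : Type*} [Field F] [CharZero F] [DecidableEq ι] {o : ι} {f : ι → ℤ} {g h : ι → F} {l k : F}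
  {β γ A B P R : ι → ℤ}

set_option maxHeartbeats 1000000 in
theorem exists_Fr (D : Dat o f g h l k β γ A B P R) : ∃ (a b : F) (u : Fin 8 → ι → ℤ),
    Fr o (fun i => g i - a * f i) (fun i => h i - b * f i) β γ A B u := by
  obtain ⟨x, x', y, y', r, s, e, hx, hx', hy, hy', hr, hs, he, xx', xy, xy', xr, xs, xe, x'y, x'y',
    x'r, x's, x'e, yy', yr, ys, ye, y'r, y's, y'e, rs, re, se, hβ, hγ, hA, hB⟩ := D.exists_frame
  have hω : ip (Pi.single o 1 : ι → ℤ) (Pi.single o 1) = 1 := by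
    rw [ip_single]; simp
  have hval : ∀ m : ι → ℤ, ip (Pi.single o 1) m = m o := by
    intro m; rw [ip_comm, ip_single]
  have two : ∀ u v : ι → ℤ, ip u u = 1 → ip v v = 1 → ip u v = 0 → (u o) ^ 2 + (v o) ^ 2 ≤ 1 := by
    intro u v h1 h2 h3
    have := bes2 h1 h2 h3 (Pi.single o 1)
    rwa [hω, hval, hval] at this
  have ox : x o = 0 ∧ x' o = 0 := by
    have h1 := D.bo
    rw [hβ, Pi.sub_apply] at h1
    have h2 := two x x' hx hx' xx'
    rcases int_small (by nlinarith [sq_nonneg (x' o)] : (x o) ^ 2 ≤ 1) with h | h | h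
    · have : x' o = -1 := by omega
      rw [h, this] at h2; norm_num at h2
    · exact ⟨h, by omega⟩
    · have : x' o = 1 := by omega
      rw [h, this] at h2; norm_num at h2
  have oy : y o = 0 ∧ y' o = 0 := by
    have h1 := D.co
    rw [hγ, Pi.sub_apply] at h1
    have h2 := two y y' hy hy' yy'
    rcases int_small (by nlinarith [sq_nonneg (y' o)] : (y o) ^ 2 ≤ 1) with h | h | h
    · have : y' o = -1 := by omega
      rw [h, this] at h2; norm_num at h2
    · exact ⟨h, by omega⟩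
    · have : y' o = 1 := by omega
      rw [h, this] at h2; norm_num at h2
  have ors : r o = 0 ∧ s o = 0 := by
    have h1 := D.Ao
    rw [hA, Pi.sub_apply, Pi.add_apply, oy.1] at h1
    have h2 := two r s hr hs rs
    rcases int_small (by nlinarith [sq_nonneg (s o)] : (r o) ^ 2 ≤ 1) with h | h | h
    · have : s o = 1 := by omega
      rw [h, this] at h2; norm_num at h2
    · exact ⟨h, by omega⟩
    · have : s o = -1 := by omega
      rw [h, this] at h2; norm_num at h2
  have oe : e o = 0 := by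
    have h1 := D.Bo
    rw [hB, Pi.add_apply, Pi.sub_apply, oy.1, ox.1] at h1
    omega
  -- ratios
  have hX := ip_ne_zero D.fpos hr
  have hY := ip_ne_zero D.fpos hs
  have hZ := ip_ne_zero D.fpos hy
  have hE := ip_ne_zero D.fpos he
  have hC := ip_ne_zero D.fpos hx
  have hX' : (ip r f : F) ≠ 0 := by exact_mod_cast hX
  have hY' : (ip s f : F) ≠ 0 := by exact_mod_cast hY
  have hZ' : (ip y f : F) ≠ 0 := by exact_mod_cast hZ
  have hE' : (ip e f : F) ≠ 0 := by exact_mod_cast hE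
  have hC' : (ip x f : F) ≠ 0 := by exact_mod_cast hC
  have hratio : lin g r * (ip y f : F) = lin g y * (ip r f : F) ∧
      lin g s * (ip y f : F) = lin g y * (ip s f : F) := by
    have hfA := D.fA
    have hgA := D.gA
    have hPA := D.Agg
    rw [hA, ip_sub_left, ip_add_left] at hfA
    rw [hA, lin_sub, lin_add] at hgA
    rw [hA, Phi_sub, Phi_add, Phi_unit _ _ hr, Phi_unit _ _ hs, Phi_unit _ _ hy] at hPA
    have hfA' : (ip y f : F) = ip r f + ip s f := by
      have : ip y f = ip r f + ip s f := by linarith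
      rw [this]; push_cast; ring
    have hgA' : lin g y = lin g r + lin g s := by linear_combination -hgA
    have hratio : lin g r * (ip s f : F) = lin g s * (ip r f : F) := by
      have h3 : (lin g r * (ip s f : F) - lin g s * (ip r f : F)) ^ 2 = 0 := by
        rw [hfA', hgA'] at hPA
        rw [hfA'] at hZ'
        field_simp at hPA
        linear_combination hPA
      have h4 := pow_eq_zero_iff (two_ne_zero) |>.1 h3
      linear_combination h4
    constructor
    · rw [hfA', hgA']; linear_combination hratio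
    · rw [hfA', hgA']; linear_combination -hratio
  have hratioB : lin h e * (ip y f : F) = lin h y * (ip e f : F) := by
    have hfB := D.fB
    have hhB := D.hB
    have hPB := D.Bhh
    rw [hB, ip_add_left, ip_sub_left] at hfB
    rw [hB, lin_add, lin_sub] at hhB
    rw [hB, Phi_add, Phi_sub, Phi_unit _ _ hy, Phi_unit _ _ hx, Phi_unit _ _ he] at hPB
    have hfB' : (ip x f : F) = ip y f + ip e f := by
      have : ip x f = ip y f + ip e f := by linarith
      rw [this]; push_cast; ring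
    have hhB' : lin h x = lin h y + lin h e := by linear_combination -hhB
    have h3 : (lin h e * (ip y f : F) - lin h y * (ip e f : F)) ^ 2 = 0 := by
      rw [hfB', hhB'] at hPB
      rw [hfB'] at hC'
      field_simp at hPB
      linear_combination hPB
    have h4 := pow_eq_zero_iff (two_ne_zero) |>.1 h3
    linear_combination h4
  refine ⟨lin g y / ip y f, lin h y / ip y f, ![Pi.single o 1, x, x', y, y', r, s, e], ?_⟩
  constructor
  · have c := fun (p q : ι → ℤ) => ip_comm p q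
    intro a b
    fin_cases a <;> fin_cases b <;>
      first
      | exact hω | exact hx | exact hx' | exact hy | exact hy' | exact hr | exact hs | exact he
      | exact (hval _).trans ox.1 | exact (hval _).trans ox.2 | exact (hval _).trans oy.1
      | exact (hval _).trans oy.2 | exact (hval _).trans ors.1 | exact (hval _).trans ors.2
      | exact (hval _).trans oe
      | exact (ip_single _ _).trans ox.1 | exact (ip_single _ _).trans ox.2
      | exact (ip_single _ _).trans oy.1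
      | exact (ip_single _ _).trans oy.2 | exact (ip_single _ _).trans ors.1
      | exact (ip_single _ _).trans ors.2 | exact (ip_single _ _).trans oe
      | exact xx' | exact xy | exact xy' | exact xr | exact xs | exact xe
      | exact x'y | exact x'y' | exact x'r | exact x's | exact x'e | exact yy' | exact yr | exact ys
      | exact ye | exact y'r | exact y's | exact y'e | exact rs | exact re | exact se
      | exact (c _ _).trans xx' | exact (c _ _).trans xy | exact (c _ _).trans xy'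
      | exact (c _ _).trans xr | exact (c _ _).trans xs | exact (c _ _).trans xe
      | exact (c _ _).trans x'y | exact (c _ _).trans x'y' | exact (c _ _).trans x'r
      | exact (c _ _).trans x's | exact (c _ _).trans x'e | exact (c _ _).trans yy'
      | exact (c _ _).trans yr | exact (c _ _).trans ys | exact (c _ _).trans ye
      | exact (c _ _).trans y'r | exact (c _ _).trans y's | exact (c _ _).trans y'e
      | exact (c _ _).trans rs | exact (c _ _).trans re | exact (c _ _).trans se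
  · rfl
  · exact hβ
  · exact hγ
  · exact hA
  · exact hB
  · show lin _ y = 0
    rw [lin_sub_smul]; field_simp; ring
  · show lin _ r = 0
    rw [lin_sub_smul]; field_simp; linear_combination hratio.1
  · show lin _ s = 0
    rw [lin_sub_smul]; field_simp; linear_combination hratio.2
  · show lin _ y = 0
    rw [lin_sub_smul]; field_simp; ring
  · show lin _ e = 0
    rw [lin_sub_smul]; field_simp; linear_combination hratioB

omit [CharZero F] in
/-- the swapped frame -/
theorem _root_.Cfsg.Agent.H431.Alt.Fr.swap {u : Fin 8 → ι → ℤ} (U : Fr o g h β γ A B u) :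
    Fr o g h β γ A B (u ∘ Equiv.swap 5 6) where
  on := by
    intro a b
    rw [Function.comp, Function.comp, U.on]
    simp
  u0 := U.u0
  hβ := U.hβ
  hγ := U.hγ
  hA := by
    show A = u 6 + u 5 - u 3
    rw [U.hA]; abel
  hB := U.hB
  g3 := U.g3
  g5 := U.g6
  g6 := U.g5
  h3 := U.h3
  h7 := U.h7

omit [CharZero F] in
theorem _root_.Cfsg.Agent.H431.Alt.Fr.bessel {u : Fin 8 → ι → ℤ} (U : Fr o g h β γ A B u) (m : ι → ℤ) :
    ip m (u 0) ^ 2 + ip m (u 1) ^ 2 + ip m (u 2) ^ 2 + ip m (u 3) ^ 2 + ip m (u 4) ^ 2 +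
      ip m (u 5) ^ 2 + ip m (u 6) ^ 2 + ip m (u 7) ^ 2 ≤ ip m m := by
  have := ip_bessel u U.on m
  rwa [Fin.sum_univ_eight] at this

/-- the coefficients of `P` -/
theorem coefP (D : Dat o f g h l k β γ A B P R) {u : Fin 8 → ι → ℤ} (U : Fr o g h β γ A B u) :
    ip P (u 0) = 1 ∧ ((ip P (u 1) = 1 ∧ ip P (u 2) = 0 ∧ ip P (u 7) = 0) ∨
      (ip P (u 1) = 0 ∧ ip P (u 2) = -1 ∧ ip P (u 7) = -1)) ∧ ip P (u 3) = 0 ∧ ip P (u 4) = 0 ∧
      ((ip P (u 5) = -1 ∧ ip P (u 6) = 0) ∨ (ip P (u 5) = 0 ∧ ip P (u 6) = -1)) := by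
  have h0 : ip P (u 0) = 1 := by rw [U.u0, ip_single, D.Po]
  have h1 := D.Pb
  have h2 := D.Pc
  have h3 := D.PA
  have h4 := D.PB
  rw [U.hβ, ip_sub_right] at h1
  rw [U.hγ, ip_sub_right] at h2
  rw [U.hA, ip_sub_right, ip_add_right] at h3
  rw [U.hB, ip_add_right, ip_sub_right] at h4
  have h5 := U.bessel P
  rw [D.PP, h0] at h5
  exact ⟨h0, intP (by linarith) h1 (by linarith) h3 h4⟩

/-- the coefficients of `R` -/
theorem coefR (D : Dat o f g h l k β γ A B P R) {u : Fin 8 → ι → ℤ} (U : Fr o g h β γ A B u) :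
    ip R (u 0) = 1 ∧ (((ip R (u 1) = 1 ∧ ip R (u 2) = 0 ∧ ip R (u 7) = 0) ∨
      (ip R (u 1) = 0 ∧ ip R (u 2) = -1 ∧ ip R (u 7) = -1)) ∧ ip R (u 3) = 0 ∧ ip R (u 4) = 0 ∧
      ((ip R (u 5) = 1 ∧ ip R (u 6) = 0) ∨ (ip R (u 5) = 0 ∧ ip R (u 6) = 1)) ∨
      (ip R (u 1) = 0 ∧ ip R (u 2) = -1 ∧ ip R (u 3) = -1 ∧ ip R (u 4) = -1 ∧ ip R (u 5) = 0 ∧
        ip R (u 6) = 0 ∧ ip R (u 7) = 0)) := by
  have h0 : ip R (u 0) = 1 := by rw [U.u0, ip_single, D.Ro]
  have h1 := D.Rb
  have h2 := D.Rc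
  have h3 := D.RA
  have h4 := D.RB
  rw [U.hβ, ip_sub_right] at h1
  rw [U.hγ, ip_sub_right] at h2
  rw [U.hA, ip_sub_right, ip_add_right] at h3
  rw [U.hB, ip_add_right, ip_sub_right] at h4
  have h5 := U.bessel R
  rw [D.RR, h0] at h5
  exact ⟨h0, intR (by linarith) h1 (by linarith) h3 h4⟩

omit [CharZero F] in
/-- a vector of norm at most the sum of the squares of its coefficients -/
theorem _root_.Cfsg.Agent.H431.Alt.Fr.eq_sum {u : Fin 8 → ι → ℤ} (U : Fr o g h β γ A B u)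
    (c : Fin 8 → ℤ) (m : ι → ℤ) (hm : ∀ a, ip m (u a) = c a) (hn : ip m m = ∑ a, c a ^ 2) :
    m = ∑ a, c a • u a := by
  have hsum : ∀ (z : ι → ℤ), ip z (∑ a, c a • u a) = ∑ a, c a * ip z (u a) := by
    intro z
    simp only [Fin.sum_univ_eight, ip_add_right, ip_smul_right]
  have h1 : ip (m - ∑ a, c a • u a) (m - ∑ a, c a • u a) = 0 := by
    rw [ip_sub_left, ip_sub_right, ip_sub_right, ip_comm (∑ a, c a • u a) m, hsum m, hsum, hn]
    have h2 : ∀ b, ip (∑ a, c a • u a) (u b) = c b := by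
      intro b
      rw [ip_comm, hsum]
      rw [Finset.sum_congr rfl fun a _ => by rw [U.on b a]]
      simp
    simp only [h2, hm]
    have h3 : ∑ a, c a ^ 2 = ∑ a, c a * c a := Finset.sum_congr rfl fun a _ => sq _
    rw [h3]
    ring
  exact sub_eq_zero.1 (eq_zero_of_ip_self h1)

end Dat

end Cfsg.Agent.H431.Alt
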