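import Mathlib
import Cfsg.Agent.H431.AltEmbed

/-!
# The lattice theorem

`Dat.exists_char`: the data of the six exceptional characters yield an irreducible character of
degree 2.
-/

set_option autoImplicit false

namespace Cfsg.Agent.H431.Alt

attribute [local irreducible] ip lin

variable {ι : Type*} [Fintype ι]

namespace Dat

variable {F : Type*} [Field F] [CharZero F] [DecidableEq ι] {o : ι} {f : ι → ℤ} {g h : ι → F} {l k : F}
  {β γ A B P R : ι → ℤ}

omit [CharZero F] in
/-- common facts on the values on the frame -/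
theorem vals (D : Dat o f g h l k β γ A B P R) {u : Fin 8 → ι → ℤ} (U : Fr o g h β γ A B u) :
    (∀ a, ip (u a) (u a) = 1) ∧ ip (u 0) f = 1 ∧ ip (u 2) f = ip (u 1) f ∧ ip (u 4) f = ip (u 3) f ∧
    ip (u 1) f = ip (u 7) f + ip (u 3) f ∧ ip (u 3) f = ip (u 5) f + ip (u 6) f ∧
    lin g (u 0) = g o ∧ lin g (u 1) = lin g (u 7) ∧ lin g (u 2) = lin g (u 7) ∧ lin g (u 4) = 0 ∧
    lin h (u 0) = h o ∧ lin h (u 1) = 0 ∧ lin h (u 6) = - lin h (u 5) := by
  have hu : ∀ a, ip (u a) (u a) = 1 := fun a => by rw [U.on, if_pos rfl]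
  have fb := D.fb
  have fc := D.fc
  have fA := D.fA
  have fB := D.fB
  rw [U.hβ, ip_sub_left] at fb
  rw [U.hγ, ip_sub_left] at fc
  rw [U.hA, ip_sub_left, ip_add_left] at fA
  rw [U.hB, ip_add_left, ip_sub_left] at fB
  have gb := D.gb
  have gc := D.gc
  have gB := D.gB
  rw [U.hβ, lin_sub] at gb
  rw [U.hγ, lin_sub, U.g3] at gc
  rw [U.hB, lin_add, lin_sub, U.g3] at gB
  have hA := D.hA
  have hB := D.hB
  rw [U.hA, lin_sub, lin_add, U.h3] at hA
  rw [U.hB, lin_add, lin_sub, U.h3, U.h7] at hB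
  refine ⟨hu, ?_, by linarith, by linarith, by linarith, by linarith, ?_, by linear_combination -gB,
    by linear_combination -gb - gB, by linear_combination -gc, ?_, by linear_combination -hB,
    by linear_combination hA⟩
  · rw [U.u0, ip_comm, ip_single, D.fo]
  · rw [U.u0, lin_single]
  · rw [U.u0, lin_single]

/-- the equation of `B` -/
theorem eqB (D : Dat o f g h l k β γ A B P R) {u : Fin 8 → ι → ℤ} (U : Fr o g h β γ A B u) :
    lin g (u 7) ^ 2 / (ip (u 7) f : F) - lin g (u 7) ^ 2 / (ip (u 1) f : F) = 2 * l ^ 2 ∧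
      lin g (u 7) ≠ 0 := by
  obtain ⟨hu, -, -, -, -, -, -, g1, -, -, -, -, -⟩ := D.vals U
  have h1 := D.Bgg
  rw [U.hB, Phi_add, Phi_sub, Phi_unit _ _ (hu 3), Phi_unit _ _ (hu 1), Phi_unit _ _ (hu 7), U.g3, g1] at h1
  have h2 : lin g (u 7) ^ 2 / (ip (u 7) f : F) - lin g (u 7) ^ 2 / (ip (u 1) f : F) = 2 * l ^ 2 := by
    rw [← h1]; ring
  refine ⟨h2, ?_⟩
  intro h3
  rw [h3] at h2
  have : 2 * l ^ 2 = 0 := by rw [← h2]; simp
  exact mul_ne_zero two_ne_zero (pow_ne_zero 2 D.l0) this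

theorem cast_inv {C E : ℤ} (hC : C ≠ 0) (hE : E ≠ 0) {a b c : ℕ}
    (h : (a : F) * (1 / (C : F)) + b * (1 / (E : F)) = c) : (a : ℚ) * (1 / (C : ℚ)) + b * (1 / (E : ℚ)) = c := by
  have hC' : (C : F) ≠ 0 := by exact_mod_cast hC
  have hE' : (E : F) ≠ 0 := by exact_mod_cast hE
  have hC'' : (C : ℚ) ≠ 0 := by exact_mod_cast hC
  have hE'' : (E : ℚ) ≠ 0 := by exact_mod_cast hE
  field_simp at h ⊢
  exact_mod_cast h

/-- `P` has the natural form -/
theorem formP (D : Dat o f g h l k β γ A B P R) {u : Fin 8 → ι → ℤ} (U : Fr o g h β γ A B u) :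
    ∃ (u : Fin 8 → ι → ℤ) (z : ι → ℤ), Fr o g h β γ A B u ∧ ip z z = 1 ∧ P = u 0 + u 1 - u 5 - z ∧
      (∀ a, ip z (u a) = 0) := by
  have key : ∀ u : Fin 8 → ι → ℤ, Fr o g h β γ A B u → ip P (u 5) = -1 → ip P (u 6) = 0 →
      ∃ (z : ι → ℤ), ip z z = 1 ∧ P = u 0 + u 1 - u 5 - z ∧ (∀ a, ip z (u a) = 0) := by
    intro u U p5 p6
    obtain ⟨p0, hp, p3, p4, -⟩ := D.coefP U
    rcases hp with ⟨p1, p2, p7⟩ | ⟨p1, p2, p7⟩
    · refine ⟨u 0 + u 1 - u 5 - P, ?_, by abel, ?_⟩
      · simp only [ip_sub_left, ip_sub_right, ip_add_left, ip_add_right, U.on, ip_comm _ P, p0, p1, p5,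
          D.PP]
        simp
      · intro a
        rw [ip_sub_left, ip_sub_left, ip_add_left, U.on, U.on, U.on]
        fin_cases a <;> simp [p0, p1, p2, p3, p4, p5, p6, p7]
    · exfalso
      have hP : P = u 0 - u 2 - u 5 - u 7 := by
        rw [U.eq_sum ![1, 0, -1, 0, 0, -1, 0, -1] P
          (by intro a; fin_cases a <;> simp [p0, p1, p2, p3, p4, p5, p6, p7])
          (by rw [D.PP, Fin.sum_univ_eight]; simp), Fin.sum_univ_eight]
        simp
        abel
      obtain ⟨hu, f0, f2, f4, f1, f3, g0, g1, g2, g4, h0, h1, h6⟩ := D.vals U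
      obtain ⟨hB, hG⟩ := D.eqB U
      have hg := D.gP
      have hgg := D.Pgg
      rw [hP, lin_sub, lin_sub, lin_sub, g0, g2, U.g5] at hg
      rw [hP, Phi_sub, Phi_sub, Phi_sub, Phi_unit _ _ (hu 0), Phi_unit _ _ (hu 2), Phi_unit _ _ (hu 5),
        Phi_unit _ _ (hu 7), g0, g2, U.g5, f0, f2] at hgg
      have hg' : g o = 2 * lin g (u 7) := by linear_combination hg
      rw [hg'] at hgg
      have c1 := ip_ne_zero D.fpos (hu 1)
      have c7 := ip_ne_zero D.fpos (hu 7)
      have e1 : (1 : F) * (1 / (ip (u 1) f : F)) + 1 * (1 / (ip (u 7) f : F)) = 4 := by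
        have : lin g (u 7) ^ 2 * ((1 : F) * (1 / (ip (u 1) f : F)) + 1 * (1 / (ip (u 7) f : F)) - 4) = 0 := by
          push_cast at hgg
          linear_combination -hgg
        have := (mul_eq_zero.1 this).resolve_left (pow_ne_zero 2 hG)
        linear_combination this
      have e2 := cast_inv (F := F) c1 c7 (a := 1) (b := 1) (c := 4) (by push_cast; exact e1)
      have e3 := (int_inv_bound c1 c7).2
      apply e3
      push_cast at e2
      linarith
  obtain ⟨-, -, -, -, h⟩ := D.coefP U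
  rcases h with ⟨h5, h6⟩ | ⟨h5, h6⟩
  · obtain ⟨z, h1, h2, h3⟩ := key u U h5 h6
    exact ⟨u, z, U, h1, h2, h3⟩
  · obtain ⟨z, h1, h2, h3⟩ := key _ U.swap h6 h5
    exact ⟨_, z, U.swap, h1, h2, h3⟩

/-- `R` has the natural form -/
theorem formR (D : Dat o f g h l k β γ A B P R) {u : Fin 8 → ι → ℤ} (U : Fr o g h β γ A B u)
    {z : ι → ℤ} (hz : ip z z = 1) (hP : P = u 0 + u 1 - u 5 - z) (hzu : ∀ a, ip z (u a) = 0) :
    ∃ w, ip w w = 1 ∧ R = u 0 + u 1 + u 5 - w := by
  obtain ⟨hu, f0, f2, f4, f1, f3, g0, g1, g2, g4, h0, h1, h6⟩ := D.vals U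
  obtain ⟨hB, hG⟩ := D.eqB U
  have c1 := ip_ne_zero D.fpos (hu 1)
  have c7 := ip_ne_zero D.fpos (hu 7)
  have c3 := ip_ne_zero D.fpos (hu 3)
  have hRP := D.RP
  rw [hP, ip_sub_right, ip_sub_right, ip_add_right] at hRP
  obtain ⟨r0, hR⟩ := D.coefR U
  rcases hR with ⟨hr, r3, r4, h56⟩ | ⟨r1, r2, r3, r4, r5, r6, r7⟩
  · rcases hr with ⟨r1, r2, r7⟩ | ⟨r1, r2, r7⟩
    · rcases h56 with ⟨r5, r6⟩ | ⟨r5, r6⟩
      · refine ⟨u 0 + u 1 + u 5 - R, ?_, by abel⟩
        simp only [ip_sub_left, ip_sub_right, ip_add_left, ip_add_right, U.on, ip_comm _ R, r0, r1, r5,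
          D.RR]
        simp
      · exfalso
        have rz : ip R z = 1 := by rw [r0, r1, r5] at hRP; linarith
        have hR : R = u 0 + u 1 + u 6 + z := by
          have h1 : ip (R - u 0 - u 1 - u 6 - z) (R - u 0 - u 1 - u 6 - z) = 0 := by
            have hz' : ∀ a, ip (u a) z = 0 := fun a => by rw [ip_comm, hzu]
            simp only [ip_sub_left, ip_sub_right, U.on, ip_comm _ R, r0, r1, r6,
              D.RR, hzu, hz', rz, hz]
            simp
          have h2 := eq_zero_of_ip_self h1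
          have h3 : R = (R - u 0 - u 1 - u 6 - z) + (u 0 + u 1 + u 6 + z) := by abel
          rw [h2, zero_add] at h3
          exact h3
        have hgP := D.gP
        have hgR := D.gR
        have hgg := D.Pgg
        have hgg' := D.Rgg
        rw [hP, lin_sub, lin_sub, lin_add, g0, g1, U.g5] at hgP
        rw [hR, lin_add, lin_add, lin_add, g0, g1, U.g6] at hgR
        have gz : lin g z = 0 := by
          have : 2 * lin g z = 0 := by linear_combination hgR - hgP
          exact (mul_eq_zero.1 this).resolve_left two_ne_zero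
        rw [hP, Phi_sub, Phi_sub, Phi_add, Phi_unit _ _ (hu 0), Phi_unit _ _ (hu 1), Phi_unit _ _ (hu 5),
          Phi_unit _ _ hz, g0, g1, U.g5, gz] at hgg
        rw [hR, Phi_add, Phi_add, Phi_add, Phi_unit _ _ (hu 0), Phi_unit _ _ (hu 1), Phi_unit _ _ (hu 6),
          Phi_unit _ _ hz, g0, g1, U.g6, gz] at hgg'
        have : l ^ 2 = 0 := by linear_combination hgg - hgg'
        exact pow_ne_zero 2 D.l0 this
    · exfalso
      rcases h56 with ⟨r5, r6⟩ | ⟨r5, r6⟩
      · have hR : R = u 0 - u 2 + u 5 - u 7 := by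
          rw [U.eq_sum ![1, 0, -1, 0, 0, 1, 0, -1] R
            (by intro a; fin_cases a <;> simp [r0, r1, r2, r3, r4, r5, r6, r7])
            (by rw [D.RR, Fin.sum_univ_eight]; simp), Fin.sum_univ_eight]
          simp
          abel
        have rz : ip R z = 0 := by
          rw [hR, ip_sub_left, ip_add_left, ip_sub_left]
          simp only [ip_comm _ z, hzu]
          norm_num
        rw [r0, r1, r5, rz] at hRP
        norm_num at hRP
      · have hR : R = u 0 - u 2 + u 6 - u 7 := by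
          rw [U.eq_sum ![1, 0, -1, 0, 0, 0, 1, -1] R
            (by intro a; fin_cases a <;> simp [r0, r1, r2, r3, r4, r5, r6, r7])
            (by rw [D.RR, Fin.sum_univ_eight]; simp), Fin.sum_univ_eight]
          simp
          abel
        have hg := D.gR
        have hgg := D.Rgg
        rw [hR, lin_sub, lin_add, lin_sub, g0, g2, U.g6] at hg
        rw [hR, Phi_sub, Phi_add, Phi_sub, Phi_unit _ _ (hu 0), Phi_unit _ _ (hu 2), Phi_unit _ _ (hu 6),
          Phi_unit _ _ (hu 7), g0, g2, U.g6, f0, f2] at hgg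
        have hg' : g o = 2 * lin g (u 7) := by linear_combination hg
        rw [hg'] at hgg
        have e1 : (1 : F) * (1 / (ip (u 1) f : F)) + 3 * (1 / (ip (u 7) f : F)) = 8 := by
          have : lin g (u 7) ^ 2 * ((1 : F) * (1 / (ip (u 1) f : F)) + 3 * (1 / (ip (u 7) f : F)) - 8) = 0 := by
            push_cast at hgg
            linear_combination -2 * hgg + hB
          have := (mul_eq_zero.1 this).resolve_left (pow_ne_zero 2 hG)
          linear_combination this
        have e2 := cast_inv (F := F) c1 c7 (a := 1) (b := 3) (c := 8) (by push_cast; exact e1)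
        have e3 := (int_inv_bound c1 c7).1
        apply e3
        push_cast at e2
        linear_combination e2
  · exfalso
    have hR : R = u 0 - u 2 - u 3 - u 4 := by
      rw [U.eq_sum ![1, 0, -1, -1, -1, 0, 0, 0] R
        (by intro a; fin_cases a <;> simp [r0, r1, r2, r3, r4, r5, r6, r7])
        (by rw [D.RR, Fin.sum_univ_eight]; simp), Fin.sum_univ_eight]
      simp
      abel
    have hf := D.fR
    have hg := D.gR
    have hgg := D.Rgg
    rw [hR, ip_sub_left, ip_sub_left, ip_sub_left, f0, f2, f4] at hf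
    rw [hR, lin_sub, lin_sub, lin_sub, g0, g2, U.g3, g4] at hg
    rw [hR, Phi_sub, Phi_sub, Phi_sub, Phi_unit _ _ (hu 0), Phi_unit _ _ (hu 2), Phi_unit _ _ (hu 3),
      Phi_unit _ _ (hu 4), g0, g2, U.g3, g4, f0, f2] at hgg
    have hg' : g o = lin g (u 7) := by linear_combination hg
    rw [hg'] at hgg
    replace hgg : lin g (u 7) ^ 2 - lin g (u 7) ^ 2 / (ip (u 1) f : F) = l ^ 2 := by
      rw [← hgg]; push_cast; ring
    have c1' : (ip (u 1) f : F) ≠ 0 := by exact_mod_cast c1
    have c7' : (ip (u 7) f : F) ≠ 0 := by exact_mod_cast c7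
    have e1 : (ip (u 7) f : F) * (2 * (ip (u 1) f : F) - 1) = (ip (u 1) f : F) := by
      rw [← hgg] at hB
      field_simp at hB
      linear_combination -hB
    have e2 : ip (u 7) f * (2 * ip (u 1) f - 1) = ip (u 1) f := by exact_mod_cast e1
    have e3 : (6 * ip (u 1) f - 1) * (ip (u 1) f - 1) = 0 := by
      have : 2 * ip (u 7) f = 3 * ip (u 1) f - 1 := by linarith
      linear_combination 2 * e2 - (2 * ip (u 1) f - 1) * this
    rcases mul_eq_zero.1 e3 with h | h
    · omega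
    · apply c3
      omega

/-- **The lattice theorem.** -/
theorem exists_char (D : Dat o f g h l k β γ A B P R) :
    ∃ i, f i = 2 ∧ g i = 2 * g o ∧ A i = 0 ∧ B i = 1 := by
  obtain ⟨a, b, u₀, U₀⟩ := D.exists_Fr
  obtain ⟨g', hg'⟩ : ∃ g' : ι → F, g' = fun i => g i - a * f i := ⟨_, rfl⟩
  obtain ⟨h', hh'⟩ : ∃ h' : ι → F, h' = fun i => h i - b * f i := ⟨_, rfl⟩
  have D' : Dat o f g' h' l k β γ A B P R := by rw [hg', hh']; exact D.shift a b
  rw [← hg', ← hh'] at U₀
  obtain ⟨u, z, U, hz, hP, hzu⟩ := D'.formP U₀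
  obtain ⟨w, hw, hR⟩ := D'.formR U hz hP hzu
  obtain ⟨hu, f0, f2, f4, f1, f3, g0, g1, g2, g4, h0, h1, h6⟩ := D'.vals U
  have c1 := ip_ne_zero D.fpos (hu 1)
  have c3 := ip_ne_zero D.fpos (hu 3)
  have c5 := ip_ne_zero D.fpos (hu 5)
  have c6 := ip_ne_zero D.fpos (hu 6)
  have c7 := ip_ne_zero D.fpos (hu 7)
  have cz := ip_ne_zero D.fpos hz
  have cw := ip_ne_zero D.fpos hw
  have hl := D.l0
  have hk := D.k0
  -- the values on `z` and `w`
  have fz : ip z f = 1 + ip (u 7) f + ip (u 6) f := by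
    have := D.fP
    rw [hP, ip_sub_left, ip_sub_left, ip_add_left, f0] at this
    linarith
  have fw : ip w f = 1 + ip (u 7) f + 2 * ip (u 5) f + ip (u 6) f := by
    have := D.fR
    rw [hR, ip_sub_left, ip_add_left, ip_add_left, f0] at this
    linarith
  have gz : lin g' z = g' o + lin g' (u 7) := by
    have := D'.gP
    rw [hP, lin_sub, lin_sub, lin_add, g0, g1, U.g5] at this
    linear_combination -this
  have gw : lin g' w = g' o + lin g' (u 7) := by
    have := D'.gR
    rw [hR, lin_sub, lin_add, lin_add, g0, g1, U.g5] at this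
    linear_combination -this
  have hz' : lin h' z = h' o - lin h' (u 5) := by
    have := D'.hP
    rw [hP, lin_sub, lin_sub, lin_add, h0, h1] at this
    linear_combination -this
  have hw' : lin h' w = h' o + lin h' (u 5) := by
    have := D'.hR
    rw [hR, lin_sub, lin_add, lin_add, h0, h1] at this
    linear_combination -this
  have E1 := (D'.eqB U).1
  have E2 := D'.Ahh
  have E3 := D'.Pgg
  have E4 := D'.Pgh
  have E5 := D'.Phh
  have E6 := D'.Rgg
  have E7 := D'.Rgh
  rw [U.hA, Phi_sub, Phi_add, Phi_unit _ _ (hu 5), Phi_unit _ _ (hu 6), Phi_unit _ _ (hu 3), h6, U.h3] at E2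
  rw [hP, Phi_sub, Phi_sub, Phi_add, Phi_unit _ _ (hu 0), Phi_unit _ _ (hu 1), Phi_unit _ _ (hu 5),
    Phi_unit _ _ hz, f0] at E3 E4 E5
  rw [hR, Phi_sub, Phi_add, Phi_add, Phi_unit _ _ (hu 0), Phi_unit _ _ (hu 1), Phi_unit _ _ (hu 5),
    Phi_unit _ _ hw, f0] at E6 E7
  rw [g0, g1, U.g5, gz] at E3 E4
  rw [h0, h1, hz'] at E4 E5
  rw [g0, g1, U.g5, gw] at E6 E7
  rw [h0, h1, hw'] at E7
  have c1' : (ip (u 1) f : F) ≠ 0 := by exact_mod_cast c1
  have c3' : (ip (u 3) f : F) ≠ 0 := by exact_mod_cast c3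
  have c5' : (ip (u 5) f : F) ≠ 0 := by exact_mod_cast c5
  have c6' : (ip (u 6) f : F) ≠ 0 := by exact_mod_cast c6
  have c7' : (ip (u 7) f : F) ≠ 0 := by exact_mod_cast c7
  have cz' : (ip z f : F) ≠ 0 := by exact_mod_cast cz
  have cw' : (ip w f : F) ≠ 0 := by exact_mod_cast cw
  have hN := alg_norm (D := (ip (u 7) f : F)) (X := (ip (u 5) f : F)) (Y := (ip (u 6) f : F))
    (Z := (ip (u 3) f : F)) (C := (ip (u 1) f : F)) (T := (ip z f : F)) (W := (ip w f : F))
    (ε := g' o / l) (G := lin g' (u 7) / l) (E := h' o / k) (K := lin h' (u 5) / k)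
    c7' c5' c6' c3' c1' cz' cw' (by rw [f3]; push_cast; ring) (by rw [f1]; push_cast; ring)
    (by rw [fz]; push_cast; ring) (by rw [fw]; push_cast; ring)
    (by
      have : ∀ c : F, (lin g' (u 7) / l) ^ 2 / c = (lin g' (u 7) ^ 2 / c) / l ^ 2 := by
        intro c; ring
      rw [this, this, ← sub_div, E1]
      field_simp)
    (by
      have : (g' o / l) ^ 2 + (lin g' (u 7) / l) ^ 2 / (ip (u 1) f : F) -
          (g' o / l + lin g' (u 7) / l) ^ 2 / (ip z f : F) = (g' o ^ 2 + lin g' (u 7) ^ 2 / (ip (u 1) f : F) -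
          (g' o + lin g' (u 7)) ^ 2 / (ip z f : F)) / l ^ 2 := by ring
      rw [this]
      have h9 : g' o ^ 2 + lin g' (u 7) ^ 2 / (ip (u 1) f : F) -
          (g' o + lin g' (u 7)) ^ 2 / (ip z f : F) = 0 := by
        rw [← E3]; push_cast; ring
      rw [h9, zero_div])
    (by
      have : (g' o / l) ^ 2 + (lin g' (u 7) / l) ^ 2 / (ip (u 1) f : F) -
          (g' o / l + lin g' (u 7) / l) ^ 2 / (ip w f : F) = (g' o ^ 2 + lin g' (u 7) ^ 2 / (ip (u 1) f : F) -
          (g' o + lin g' (u 7)) ^ 2 / (ip w f : F)) / l ^ 2 := by ring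
      rw [this]
      have h9 : g' o ^ 2 + lin g' (u 7) ^ 2 / (ip (u 1) f : F) -
          (g' o + lin g' (u 7)) ^ 2 / (ip w f : F) = l ^ 2 := by
        rw [← E6]; push_cast; ring
      rw [h9, div_self (pow_ne_zero 2 hl)])
    (by
      have : (lin h' (u 5) / k) ^ 2 / (ip (u 5) f : F) + (lin h' (u 5) / k) ^ 2 / (ip (u 6) f : F) =
        (lin h' (u 5) ^ 2 / (ip (u 5) f : F) + lin h' (u 5) ^ 2 / (ip (u 6) f : F)) / k ^ 2 := by ring
      rw [this]
      have h9 : lin h' (u 5) ^ 2 / (ip (u 5) f : F) + lin h' (u 5) ^ 2 / (ip (u 6) f : F) = 2 * k ^ 2 := by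
        rw [← E2]; ring
      rw [h9]
      field_simp)
    (by
      have : (h' o / k) ^ 2 - (lin h' (u 5) / k) ^ 2 / (ip (u 5) f : F) -
          (h' o / k - lin h' (u 5) / k) ^ 2 / (ip z f : F) = (h' o ^ 2 - lin h' (u 5) ^ 2 / (ip (u 5) f : F) -
          (h' o - lin h' (u 5)) ^ 2 / (ip z f : F)) / k ^ 2 := by ring
      rw [this]
      have h9 : h' o ^ 2 - lin h' (u 5) ^ 2 / (ip (u 5) f : F) -
          (h' o - lin h' (u 5)) ^ 2 / (ip z f : F) = 2 * k ^ 2 := by
        rw [← E5]; push_cast; ring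
      rw [h9]
      field_simp)
    (by
      have : (g' o / l) * (h' o / k) -
          (g' o / l + lin g' (u 7) / l) * (h' o / k - lin h' (u 5) / k) / (ip z f : F) =
          (g' o * h' o - (g' o + lin g' (u 7)) * (h' o - lin h' (u 5)) / (ip z f : F)) / (l * k) := by ring
      rw [this]
      have h9 : g' o * h' o - (g' o + lin g' (u 7)) * (h' o - lin h' (u 5)) / (ip z f : F) =
          2 * (l * k) := by
        rw [← E4]; push_cast; ring
      rw [h9]
      field_simp)
    (by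
      have : (g' o / l) * (h' o / k) -
          (g' o / l + lin g' (u 7) / l) * (h' o / k + lin h' (u 5) / k) / (ip w f : F) =
          (g' o * h' o - (g' o + lin g' (u 7)) * (h' o + lin h' (u 5)) / (ip w f : F)) / (l * k) := by ring
      rw [this]
      have h9 : g' o * h' o - (g' o + lin g' (u 7)) * (h' o + lin h' (u 5)) / (ip w f : F) =
          l * k := by
        rw [← E7]; push_cast; ring
      rw [h9, div_self (mul_ne_zero hl hk)])
  obtain ⟨n1, n2⟩ := hN
  have n1' : ip (u 7) f = 2 := by exact_mod_cast n1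
  have n2' : lin g' (u 7) = 2 * g' o := by
    field_simp at n2
    linear_combination n2
  obtain ⟨i, hi | hi⟩ := unit_cases (hu 7)
  · refine ⟨i, ?_, ?_, ?_, ?_⟩
    · rw [hi, ip_comm, ip_single] at n1'; exact n1'
    · rw [hi, lin_single, hg'] at n2'
      beta_reduce at n2'
      rw [hi, ip_comm, ip_single] at n1'
      rw [n1', D.fo] at n2'
      push_cast at n2'
      linear_combination n2'
    · have : A i = ip A (u 7) := by rw [hi, ip_single]
      rw [this, U.hA, ip_sub_left, ip_add_left, U.on, U.on, U.on]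
      simp
    · have : B i = ip B (u 7) := by rw [hi, ip_single]
      rw [this, U.hB, ip_add_left, ip_sub_left, U.on, U.on, U.on]
      simp
  · exfalso
    rw [hi, ip_neg_left, ip_comm, ip_single] at n1'
    have := D.fpos i
    omega

end Dat

end Cfsg.Agent.H431.Alt
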