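import Mathlib

/-!
# The group `3^3 : 2^2` of the statement S3701 as a subgroup of `Sym(3)^3`
-/

set_option autoImplicit false

namespace Cfsg.Agent.H431.Block

open Equiv Equiv.Perm

/-- `Sym(3)^3 → Sym(9)` -/
def J : (Fin 3 → Perm (Fin 3)) →* Perm (Fin 9) where
  toFun f := (finProdFinEquiv (m := 3) (n := 3)).permCongr (Equiv.prodCongrRight f)
  map_one' := by
    apply Equiv.ext
    intro x
    show finProdFinEquiv ((prodCongrRight 1) (finProdFinEquiv.symm x)) = x
    have : (prodCongrRight (1 : Fin 3 → Perm (Fin 3))) (finProdFinEquiv.symm x) =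
        finProdFinEquiv.symm x := rfl
    rw [this, Equiv.apply_symm_apply]
  map_mul' f g := by
    apply Equiv.ext
    intro x
    show finProdFinEquiv ((prodCongrRight (f * g)) (finProdFinEquiv.symm x)) =
      finProdFinEquiv ((prodCongrRight f) (finProdFinEquiv.symm
        (finProdFinEquiv ((prodCongrRight g) (finProdFinEquiv.symm x)))))
    rw [Equiv.symm_apply_apply]
    rfl

theorem J_injective : Function.Injective J := by
  intro f g h
  funext i
  ext j
  have h1 := congrArg (fun e : Perm (Fin 9) =>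
    (finProdFinEquiv (m := 3) (n := 3)).symm (e (finProdFinEquiv (i, j)))) h
  simp [J] at h1
  exact congrArg Fin.val h1

/-- the product of the three signs -/
def sgn3 : (Fin 3 → Perm (Fin 3)) →* ℤˣ :=
  (sign.comp (Pi.evalMonoidHom (fun _ : Fin 3 => Perm (Fin 3)) 0)) *
    (sign.comp (Pi.evalMonoidHom (fun _ : Fin 3 => Perm (Fin 3)) 1)) *
    (sign.comp (Pi.evalMonoidHom (fun _ : Fin 3 => Perm (Fin 3)) 2))

theorem sgn3_apply (f : Fin 3 → Perm (Fin 3)) : sgn3 f = sign (f 0) * sign (f 1) * sign (f 2) := rfl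

/-- the model group, of order 108 -/
def K : Subgroup (Fin 3 → Perm (Fin 3)) := sgn3.ker

theorem mem_K {f : Fin 3 → Perm (Fin 3)} : f ∈ K ↔ sign (f 0) * sign (f 1) * sign (f 2) = 1 := by
  rw [K, MonoidHom.mem_ker, sgn3_apply]

/-- the group of the statement -/
def H₀ : Subgroup (Perm (Fin 9)) :=
  Subgroup.closure ({Equiv.swap (0 : Fin 9) 1 * Equiv.swap 1 2, Equiv.swap (3 : Fin 9) 4 * Equiv.swap 4 5, Equiv.swap (6 : Fin 9) 7 * Equiv.swap 7 8,
        Equiv.swap (0 : Fin 9) 1 * Equiv.swap 3 4, Equiv.swap (0 : Fin 9) 1 * Equiv.swap 6 7} : Set (Equiv.Perm (Fin 9)))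

def c3 : Perm (Fin 3) := swap 0 1 * swap 1 2

def s2 : Perm (Fin 3) := swap 0 1

theorem gen1 : J ![c3, 1, 1] = Equiv.swap (0 : Fin 9) 1 * Equiv.swap 1 2 := by decide
theorem gen2 : J ![1, c3, 1] = Equiv.swap (3 : Fin 9) 4 * Equiv.swap 4 5 := by decide
theorem gen3 : J ![1, 1, c3] = Equiv.swap (6 : Fin 9) 7 * Equiv.swap 7 8 := by decide
theorem gen4 : J ![s2, s2, 1] = Equiv.swap (0 : Fin 9) 1 * Equiv.swap 3 4 := by decide
theorem gen5 : J ![s2, 1, s2] = Equiv.swap (0 : Fin 9) 1 * Equiv.swap 6 7 := by decide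

theorem eq_pow_c3 : ∀ x : Perm (Fin 3), sign x = 1 → ∃ a : Fin 3, x = c3 ^ (a : ℕ) := by decide

theorem H₀_eq : H₀ = K.map J := by
  apply le_antisymm
  · rw [H₀, Subgroup.closure_le]
    intro x hx
    simp only [Set.mem_insert_iff, Set.mem_singleton_iff] at hx
    rcases hx with rfl | rfl | rfl | rfl | rfl
    · exact ⟨![c3, 1, 1], mem_K.2 (by decide), gen1⟩
    · exact ⟨![1, c3, 1], mem_K.2 (by decide), gen2⟩
    · exact ⟨![1, 1, c3], mem_K.2 (by decide), gen3⟩
    · exact ⟨![s2, s2, 1], mem_K.2 (by decide), gen4⟩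
    · exact ⟨![s2, 1, s2], mem_K.2 (by decide), gen5⟩
  · have h1 : J ![c3, 1, 1] ∈ H₀ := Subgroup.subset_closure (by rw [gen1]; simp)
    have h2 : J ![1, c3, 1] ∈ H₀ := Subgroup.subset_closure (by rw [gen2]; simp)
    have h3 : J ![1, 1, c3] ∈ H₀ := Subgroup.subset_closure (by rw [gen3]; simp)
    have h4 : J ![s2, s2, 1] ∈ H₀ := Subgroup.subset_closure (by rw [gen4]; simp)
    have h5 : J ![s2, 1, s2] ∈ H₀ := Subgroup.subset_closure (by rw [gen5]; simp)
    have hA : ∀ f : Fin 3 → Perm (Fin 3), sign (f 0) = 1 → sign (f 1) = 1 → sign (f 2) = 1 →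
        J f ∈ H₀ := by
      intro f e0 e1 e2
      obtain ⟨a, ha⟩ := eq_pow_c3 _ e0
      obtain ⟨b, hb⟩ := eq_pow_c3 _ e1
      obtain ⟨c, hc⟩ := eq_pow_c3 _ e2
      have : f = ![c3, 1, 1] ^ (a : ℕ) * ![1, c3, 1] ^ (b : ℕ) * ![1, 1, c3] ^ (c : ℕ) := by
        funext i
        fin_cases i
        · simpa using ha
        · simpa using hb
        · simpa using hc
      rw [this, map_mul, map_mul, map_pow, map_pow, map_pow]
      exact mul_mem (mul_mem (pow_mem h1 _) (pow_mem h2 _)) (pow_mem h3 _)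
    rintro _ ⟨f, hf, rfl⟩
    rw [SetLike.mem_coe, mem_K] at hf
    have hs : sign s2 = -1 := by decide
    rcases Int.units_eq_one_or (sign (f 0)) with e0 | e0 <;>
      rcases Int.units_eq_one_or (sign (f 1)) with e1 | e1 <;>
      rcases Int.units_eq_one_or (sign (f 2)) with e2 | e2 <;>
      rw [e0, e1, e2] at hf
    · exact hA f e0 e1 e2
    · exact absurd hf (by decide)
    · exact absurd hf (by decide)
    · have h6 := hA (f * (![s2, s2, 1] * ![s2, 1, s2])) (by simp [e0, hs]) (by simp [e1, hs]) (by simp [e2, hs])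
      rw [map_mul, map_mul] at h6
      exact (Subgroup.mul_mem_cancel_right _ (mul_mem h4 h5)).1 h6
    · exact absurd hf (by decide)
    · have h6 := hA (f * ![s2, 1, s2]) (by simp [e0, hs]) (by simp [e1]) (by simp [e2, hs])
      rw [map_mul] at h6
      exact (Subgroup.mul_mem_cancel_right _ h5).1 h6
    · have h6 := hA (f * ![s2, s2, 1]) (by simp [e0, hs]) (by simp [e1, hs]) (by simp [e2])
      rw [map_mul] at h6
      exact (Subgroup.mul_mem_cancel_right _ h4).1 h6
    · exact absurd hf (by decide)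

/-- the isomorphism of the group of the statement with the model -/
noncomputable def equiv : ↥H₀ ≃* ↥K :=
  (MulEquiv.subgroupCongr H₀_eq).trans (K.equivMapOfInjective J J_injective).symm

end Cfsg.Agent.H431.Block
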