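import Mathlib
import Cfsg.Agent.H431.BlockModel

/-!
# Conjugacy in `3^3 : 2^2`
-/

set_option autoImplicit false

namespace Cfsg.Agent.H431.Block

open Equiv Equiv.Perm

theorem exists_conj_s2 : ∀ x : Perm (Fin 3), sign x = -1 → ∀ ε : ℤˣ, ∃ g : Perm (Fin 3),
    sign g = ε ∧ g * x * g⁻¹ = s2 := by decide

theorem exists_conj_c3 : ∀ x : Perm (Fin 3), sign x = 1 → x ≠ 1 → ∃ g : Perm (Fin 3),
    g * x * g⁻¹ = c3 := by decide

theorem sq_one : ∀ x : Perm (Fin 3), x * x = 1 → x = 1 ∨ sign x = -1 := by decide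

theorem sign_s2 : sign s2 = -1 := by decide
theorem sign_c3 : sign c3 = 1 := by decide
theorem s2_mul : s2 * s2 = 1 := by decide
theorem s2_ne : s2 ≠ 1 := by decide
theorem c3_ne : c3 ≠ 1 := by decide

/-- the involution `v_i` -/
def zf (i : Fin 3) : Fin 3 → Perm (Fin 3) := fun c => if c = i then 1 else s2

/-- the element `v_i t_i` -/
def wf (i : Fin 3) : Fin 3 → Perm (Fin 3) := fun c => if c = i then c3 else s2

theorem zf_mem (i : Fin 3) : zf i ∈ K := by
  rw [mem_K]
  revert i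
  decide

theorem wf_mem (i : Fin 3) : wf i ∈ K := by
  rw [mem_K]
  revert i
  decide

theorem zf_mul (i : Fin 3) : zf i * zf i = 1 := by
  revert i
  decide

theorem zf_ne (i : Fin 3) : zf i ≠ 1 := by
  revert i
  decide

/-- three components, starting at `i` -/
def tri (i : Fin 3) (a b c : Perm (Fin 3)) : Fin 3 → Perm (Fin 3) :=
  fun j => if j = i then a else if j = i + 1 then b else c

theorem tri_mem (i : Fin 3) (a b c : Perm (Fin 3)) (h : sign a * sign b * sign c = 1) :
    tri i a b c ∈ K := by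
  rw [mem_K]
  fin_cases i
  · simpa [tri] using h
  · have : sign c * sign a * sign b = 1 := by rw [← h]; exact mul_rotate (sign c) (sign a) (sign b)
    simpa [tri] using this
  · have : sign b * sign c * sign a = 1 := by rw [← h]; exact (mul_rotate (sign a) (sign b) (sign c)).symm
    simpa [tri] using this

theorem eq_tri (i : Fin 3) (f : Fin 3 → Perm (Fin 3)) : f = tri i (f i) (f (i + 1)) (f (i + 2)) := by
  funext j
  fin_cases i <;> fin_cases j <;> simp [tri]

theorem sign_tri (i : Fin 3) {f : Fin 3 → Perm (Fin 3)} (hf : f ∈ K) :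
    sign (f i) * sign (f (i + 1)) * sign (f (i + 2)) = 1 := by
  rw [mem_K] at hf
  fin_cases i
  · exact hf
  · change sign (f 1) * sign (f 2) * sign (f 0) = 1
    rw [← hf]
    exact (mul_rotate (sign (f 0)) (sign (f 1)) (sign (f 2))).symm
  · change sign (f 2) * sign (f 0) * sign (f 1) = 1
    rw [← hf]
    exact mul_rotate (sign (f 2)) (sign (f 0)) (sign (f 1))

theorem zf_eq (i : Fin 3) : zf i = tri i 1 s2 s2 := by
  funext j
  fin_cases i <;> fin_cases j <;> simp [tri, zf]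

theorem wf_eq (i : Fin 3) : wf i = tri i c3 s2 s2 := by
  funext j
  fin_cases i <;> fin_cases j <;> simp [tri, wf]

theorem tri_mul (i : Fin 3) (a b c a' b' c' : Perm (Fin 3)) :
    tri i a b c * tri i a' b' c' = tri i (a * a') (b * b') (c * c') := by
  funext j
  fin_cases i <;> fin_cases j <;> simp [tri]

theorem tri_inv (i : Fin 3) (a b c : Perm (Fin 3)) : (tri i a b c)⁻¹ = tri i a⁻¹ b⁻¹ c⁻¹ := by
  funext j
  fin_cases i <;> fin_cases j <;> simp [tri]

theorem tri_one (i : Fin 3) : tri i 1 1 1 = 1 := by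
  funext j
  fin_cases i <;> fin_cases j <;> simp [tri]

theorem signs {i : Fin 3} {f : Fin 3 → Perm (Fin 3)} (hf : f ∈ K) (h1 : sign (f i) = 1)
    (h2 : sign (f (i + 1)) = -1) : sign (f (i + 2)) = -1 := by
  have h := sign_tri i hf
  rw [h1, h2] at h
  rcases Int.units_eq_one_or (sign (f (i + 2))) with h3 | h3
  · rw [h3] at h
    exact absurd h (by decide)
  · exact h3

/-- the elements with trivial `i`-component and odd `(i+1)`-component are conjugate to `v_i` -/
theorem conj_zf {i : Fin 3} {f : Fin 3 → Perm (Fin 3)} (hf : f ∈ K) (h1 : f i = 1)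
    (h2 : sign (f (i + 1)) = -1) : ∃ g ∈ K, g * f * g⁻¹ = zf i := by
  have h3 := signs hf (by rw [h1, map_one]) h2
  obtain ⟨a, ha, ha'⟩ := exists_conj_s2 _ h2 1
  obtain ⟨b, hb, hb'⟩ := exists_conj_s2 _ h3 1
  refine ⟨tri i 1 a b, tri_mem i _ _ _ (by rw [map_one, ha, hb]; rfl), ?_⟩
  rw [eq_tri i f, tri_inv, tri_mul, tri_mul, h1, ha', hb', zf_eq]
  simp

/-- the elements with a 3-cycle as `i`-component and odd `(i+1)`-component are conjugate -/
theorem conj_wf {i : Fin 3} {f : Fin 3 → Perm (Fin 3)} (hf : f ∈ K) (h0 : f i ≠ 1)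
    (h1 : sign (f i) = 1) (h2 : sign (f (i + 1)) = -1) : ∃ g ∈ K, g * f * g⁻¹ = wf i := by
  have h3 := signs hf h1 h2
  obtain ⟨c, hc⟩ := exists_conj_c3 _ h1 h0
  obtain ⟨a, ha, ha'⟩ := exists_conj_s2 _ h2 (sign c)
  obtain ⟨b, hb, hb'⟩ := exists_conj_s2 _ h3 1
  refine ⟨tri i c a b, tri_mem i _ _ _ (by rw [ha, hb, mul_one]; exact Int.units_mul_self _), ?_⟩
  rw [eq_tri i f, tri_inv, tri_mul, tri_mul, hc, ha', hb', wf_eq]

/-- the involutions of the model group -/
theorem exists_zf {f : Fin 3 → Perm (Fin 3)} (hf : f ∈ K) (h1 : f * f = 1) (h2 : f ≠ 1) :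
    ∃ j : Fin 3, f j = 1 ∧ sign (f (j + 1)) = -1 := by
  have h3 : ∀ c, f c = 1 ∨ sign (f c) = -1 := fun c => sq_one _ (congrFun h1 c)
  rw [mem_K] at hf
  rcases h3 0 with e0 | e0 <;> rcases h3 1 with e1 | e1 <;> rcases h3 2 with e2 | e2
  · exfalso
    apply h2
    funext c
    fin_cases c
    · exact e0
    · exact e1
    · exact e2
  · rw [e0, e1, e2] at hf; exact absurd hf (by decide)
  · rw [e0, e1, e2] at hf; exact absurd hf (by decide)
  · exact ⟨0, e0, e1⟩
  · rw [e0, e1, e2] at hf; exact absurd hf (by decide)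
  · exact ⟨1, e1, e2⟩
  · exact ⟨2, e2, e0⟩
  · rw [e0, e1, e2] at hf; exact absurd hf (by decide)

end Cfsg.Agent.H431.Block
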