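import Mathlib
import Cfsg.Agent.H431.BlockSums
import Cfsg.Agent.H431.BlockConj
import Cfsg.Agent.H431.ExcChar

/-!
# Exceptional characters for `3^3 : 2^2`

Main result `exists_normal`: in a finite group `G` with a subgroup `H ≅ 3^3 : 2^2` such that the
elements of `H` with a component of order 3 have controlled fusion, each of the three
involutions `v_i` lies in a proper normal subgroup of `G`.
-/

set_option autoImplicit false

open Cfsg

namespace Cfsg.Agent.H431.Block

open Equiv Equiv.Perm Cfsg.Agent.Characters.Core Cfsg.Agent.OddOrderCharacters.VChar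
open Cfsg.Agent.H431.ExcChar Cfsg.Agent.OddOrderCharacters.IndRes

open scoped ComplexConjugate

/-! ### generalized characters of the subgroup -/

theorem gen_comp {X Y : Type*} [Group X] [Group Y] (f : X →* Y) {θ : Y → ℂ}
    (h : IsGeneralizedCharacter Y θ) : IsGeneralizedCharacter X (fun x => θ (f x)) := by
  obtain ⟨a, b, ha, hb, rfl⟩ := h
  exact ⟨fun x => a (f x), fun x => b (f x), isCharacter_comp f ha, isCharacter_comp f hb, rfl⟩

theorem gen_sg : IsGeneralizedCharacter (Perm (Fin 3)) sg := by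
  have h := Cfsg.Agent.Characters.Linear.isIrrCharacter_hom
    ((Units.map (Int.castRingHom ℂ).toMonoidHom).comp (sign : Perm (Fin 3) →* ℤˣ))
  exact gen_of_irr h

theorem gen_ph : IsGeneralizedCharacter (Perm (Fin 3)) ph := by
  have h1 : IsCharacter (Perm (Fin 3)) (fun g : Perm (Fin 3) => (Nat.card (MulAction.fixedBy (Fin 3) g) : ℂ)) :=
    Cfsg.Agent.S0157.isCharacter_fixedBy (Fin 3)
  have h2 : ph = (1 + 1 + sg) - (fun g : Perm (Fin 3) => (Nat.card (MulAction.fixedBy (Fin 3) g) : ℂ)) := by
    funext x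
    simp only [ph, phZ_eq, Pi.sub_apply, Pi.add_apply, Pi.one_apply, sg]
    have h3 : Nat.card (MulAction.fixedBy (Fin 3) x) = (Finset.univ.filter (fun i => x i = i)).card := by
      rw [Nat.card_eq_fintype_card]
      exact Fintype.card_subtype _
    rw [h3]
    push_cast
    ring
  rw [h2]
  exact gen_sub (gen_add (gen_add gen_one gen_one) gen_sg) (gen_of_char h1)

section

variable {X : Type*} [Group X] (E : X ≃* K)

theorem pf_aph (i : Fin 3) : pf E (aph i) = fun x => ph (cmp E i x) := by
  funext x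
  rw [pf, Fin.prod_univ_three]
  fin_cases i <;> simp [aph, ph]

theorem pf_aps (i : Fin 3) : pf E (aps i) = fun x => ph (cmp E i x) * sg (cmp E (i + 1) x) := by
  funext x
  rw [pf, Fin.prod_univ_three]
  fin_cases i <;> simp [aps, ph, sg] <;> ring

theorem pf_ath (i : Fin 3) :
    pf E (ath i) = fun x => (1 + sg (cmp E i x)) * (1 - sg (cmp E (i + 1) x)) := by
  funext x
  rw [pf, Fin.prod_univ_three]
  fin_cases i <;> simp [ath, sg] <;> ring

theorem pf_aone : pf E aone = 1 := by
  funext x
  rw [pf, Fin.prod_univ_three]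
  simp [aone]

theorem gen_phi (i : Fin 3) : IsGeneralizedCharacter X (pf E (aph i)) := by
  rw [pf_aph]
  exact gen_comp (cmp E i) gen_ph

theorem gen_psi (i : Fin 3) : IsGeneralizedCharacter X (pf E (aps i)) := by
  rw [pf_aps]
  exact gen_mul (gen_comp (cmp E i) gen_ph) (gen_comp (cmp E (i + 1)) gen_sg)

theorem gen_th (i : Fin 3) : IsGeneralizedCharacter X (pf E (ath i)) := by
  rw [pf_ath]
  exact gen_mul (gen_add gen_one (gen_comp (cmp E i) gen_sg))
    (gen_sub gen_one (gen_comp (cmp E (i + 1)) gen_sg))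

variable [Fintype X]

theorem cl_of {a b : Fin 3 → Perm (Fin 3) → ℤ} {n : ℤ}
    (h : (∏ c, ∑ x, a c x * b c x + ∏ c, ∑ x, a c x * b c x * (sign x : ℤ) : ℤ) = 216 * n) :
    classInner (pf E a) (pf E b) = n := by
  have h1 := classInner_pf E a b
  rw [h] at h1
  push_cast at h1
  have h2 : (216 : ℂ) ≠ 0 := by norm_num
  exact mul_left_cancel₀ h2 h1

theorem phi_phi (i : Fin 3) : classInner (pf E (aph i)) (pf E (aph i)) = 3 := by
  have := cl_of E (a := aph i) (b := aph i) (n := 3) (by rw [v_phi_phi]; norm_num)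
  simpa using this

theorem phi_phi' {i j : Fin 3} (h : i ≠ j) : classInner (pf E (aph i)) (pf E (aph j)) = 1 := by
  have := cl_of E (a := aph i) (b := aph j) (n := 1) (by rw [v_phi_phi' i j h]; norm_num)
  simpa using this

theorem phi_one (i : Fin 3) : classInner (pf E (aph i)) 1 = 1 := by
  have := cl_of E (a := aph i) (b := aone) (n := 1) (by rw [v_phi_one]; norm_num)
  rw [pf_aone] at this
  simpa using this

theorem psi_psi (i : Fin 3) : classInner (pf E (aps i)) (pf E (aps i)) = 3 := by
  have := cl_of E (a := aps i) (b := aps i) (n := 3) (by rw [v_psi_psi]; norm_num)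
  simpa using this

theorem psi_one (i : Fin 3) : classInner (pf E (aps i)) 1 = 0 := by
  have := cl_of E (a := aps i) (b := aone) (n := 0) (by rw [v_psi_one]; norm_num)
  rw [pf_aone] at this
  simpa using this

theorem phi_psi (i : Fin 3) : classInner (pf E (aph i)) (pf E (aps i)) = 0 := by
  have := cl_of E (a := aph i) (b := aps i) (n := 0) (by rw [v_phi_psi]; norm_num)
  simpa using this

theorem phi_psi' {i j : Fin 3} (h : i ≠ j) : classInner (pf E (aph i)) (pf E (aps j)) = 1 := by
  have := cl_of E (a := aph i) (b := aps j) (n := 1) (by rw [v_phi_psi' i j h]; norm_num)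
  simpa using this

theorem th_one (i : Fin 3) : classInner (pf E (ath i)) 1 = 1 := by
  have := cl_of E (a := ath i) (b := aone) (n := 1) (by rw [v_th_one]; norm_num)
  rw [pf_aone] at this
  simpa using this

/-! ### values at `v_i t_i` and `v_i` -/

/-- the element `v_i` of the subgroup -/
def zz (i : Fin 3) : X := E.symm ⟨zf i, zf_mem i⟩

/-- the element `v_i t_i` of the subgroup -/
def ww (i : Fin 3) : X := E.symm ⟨wf i, wf_mem i⟩

omit [Fintype X] in
theorem zz_mul (i : Fin 3) : zz E i * zz E i = 1 := by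
  rw [zz, ← map_mul, ← map_one E.symm]
  congr 1
  exact Subtype.ext (zf_mul i)

omit [Fintype X] in
theorem apply_zz (i : Fin 3) (x : X) (h1 : cmp E i x = 1) (h2 : sign (cmp E (i + 1) x) = -1)
    {χ : X → ℂ} (hχ : IsClassFunction X χ) : χ x = χ (zz E i) := by
  obtain ⟨g, hg, hgx⟩ := conj_zf (E x).2 h1 h2
  have h3 : E.symm ⟨g, hg⟩ * x * (E.symm ⟨g, hg⟩)⁻¹ = zz E i := by
    apply E.injective
    rw [map_mul, map_mul, map_inv, MulEquiv.apply_symm_apply, zz, MulEquiv.apply_symm_apply]
    exact Subtype.ext hgx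
  rw [← h3, hχ]

omit [Fintype X] in
theorem apply_ww (i : Fin 3) (x : X) (h0 : cmp E i x ≠ 1) (h1 : sign (cmp E i x) = 1)
    (h2 : sign (cmp E (i + 1) x) = -1)
    {χ : X → ℂ} (hχ : IsClassFunction X χ) : χ x = χ (ww E i) := by
  obtain ⟨g, hg, hgx⟩ := conj_wf (E x).2 h0 h1 h2
  have h3 : E.symm ⟨g, hg⟩ * x * (E.symm ⟨g, hg⟩)⁻¹ = ww E i := by
    apply E.injective
    rw [map_mul, map_mul, map_inv, MulEquiv.apply_symm_apply, ww, MulEquiv.apply_symm_apply]
    exact Subtype.ext hgx
  rw [← h3, hχ]

theorem inner_const {X : Type*} [Group X] [Fintype X] (α : X → ℂ) (χ : X → ℂ) (c : ℂ)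
    (h : ∀ x, α x ≠ 0 → χ x = c) : classInner α χ = conj c * classInner α 1 := by
  have h1 : ∑ x : X, α x * conj (χ x) = conj c * ∑ x : X, α x * conj ((1 : X → ℂ) x) := by
    rw [Finset.mul_sum]
    refine Finset.sum_congr rfl fun x _ => ?_
    by_cases hx : α x = 0
    · rw [hx]; ring
    · rw [h x hx]
      simp
      ring
  rw [classInner_def, classInner_def, h1]
  ring

omit [Fintype X] in
theorem phi_sub_psi (i : Fin 3) (x : X) (h : (pf E (aph i) - pf E (aps i)) x ≠ 0) :
    cmp E i x ≠ 1 ∧ sign (cmp E i x) = 1 ∧ sign (cmp E (i + 1) x) = -1 := by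
  rw [pf_aph, pf_aps] at h
  have h1 : ph (cmp E i x) * (1 - sg (cmp E (i + 1) x)) ≠ 0 := by
    intro h2
    apply h
    simp only [Pi.sub_apply]
    linear_combination h2
  have h2 : ph (cmp E i x) ≠ 0 := left_ne_zero_of_mul h1
  have h3 : 1 - sg (cmp E (i + 1) x) ≠ 0 := right_ne_zero_of_mul h1
  have h4 : cmp E i x ≠ 1 ∧ sign (cmp E i x) = 1 := by
    by_contra hcon
    apply h2
    rw [ph, phZ, if_neg hcon, Int.cast_zero]
  refine ⟨h4.1, h4.2, ?_⟩
  rcases Int.units_eq_one_or (sign (cmp E (i + 1) x)) with h5 | h5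
  · exfalso
    apply h3
    rw [sg, h5]
    simp
  · exact h5

theorem inner_ww (i : Fin 3) {χ : X → ℂ} (hχ : IsClassFunction X χ) :
    classInner (pf E (aph i)) χ - classInner (pf E (aps i)) χ = conj (χ (ww E i)) := by
  rw [← classInner_sub_left]
  rw [inner_const (pf E (aph i) - pf E (aps i)) χ (χ (ww E i))]
  · rw [classInner_sub_left, phi_one, psi_one, sub_zero, mul_one]
  · intro x hx
    obtain ⟨h1, h2, h3⟩ := phi_sub_psi E i x hx
    exact apply_ww E i x h1 h2 h3 hχ

theorem inner_zz (i : Fin 3) {χ : X → ℂ} (hχ : IsClassFunction X χ) :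
    3 * classInner (pf E (ath i)) χ = conj (χ (zz E i)) + 2 * conj (χ (ww E i)) := by
  have h1 : classInner (pf E (ath i) - (2 / 3 : ℂ) • (pf E (aph i) - pf E (aps i))) χ =
      conj (χ (zz E i)) * classInner (pf E (ath i) - (2 / 3 : ℂ) • (pf E (aph i) - pf E (aps i))) 1 := by
    apply inner_const
    intro x hx
    have h2 : (1 + sg (cmp E i x)) * (1 - sg (cmp E (i + 1) x)) -
        2 / 3 * (ph (cmp E i x) - ph (cmp E i x) * sg (cmp E (i + 1) x)) ≠ 0 := by
      intro h3
      apply hx
      rw [pf_ath, pf_aph, pf_aps]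
      simp only [Pi.sub_apply, Pi.smul_apply, smul_eq_mul]
      exact h3
    have h3 : (1 + sg (cmp E i x) - 2 / 3 * ph (cmp E i x)) * (1 - sg (cmp E (i + 1) x)) ≠ 0 := by
      intro h4
      apply h2
      linear_combination h4
    have h4 := left_ne_zero_of_mul h3
    have h5 := right_ne_zero_of_mul h3
    have h6 : sign (cmp E (i + 1) x) = -1 := by
      rcases Int.units_eq_one_or (sign (cmp E (i + 1) x)) with h7 | h7
      · exfalso
        apply h5
        rw [sg, h7]
        simp
      · exact h7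
    have h7 : cmp E i x = 1 := by
      by_contra h8
      apply h4
      rcases Int.units_eq_one_or (sign (cmp E i x)) with h9 | h9
      · rw [sg, ph, phZ, if_pos ⟨h8, h9⟩, h9]
        norm_num
      · have h10 : ¬ (cmp E i x ≠ 1 ∧ sign (cmp E i x) = 1) := by
          rintro ⟨-, h11⟩
          rw [h9] at h11
          exact absurd h11 (by decide)
        rw [sg, ph, phZ, if_neg h10, h9]
        norm_num
    exact apply_zz E i x h7 h6 hχ
  rw [classInner_sub_left, classInner_smul_left, classInner_sub_left, inner_ww E i hχ,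
    classInner_sub_left, classInner_smul_left, classInner_sub_left, th_one, phi_one, psi_one] at h1
  linear_combination 3 * h1

end

end Cfsg.Agent.H431.Block
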