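import Mathlib
import Cfsg.Agent.H431.BlockChar
import Cfsg.Agent.OddOrderCharacters.PF4b.Prime

/-!
# The exceptional characters of a group with a subgroup `3^3 : 2^2`
-/

set_option autoImplicit false

open Cfsg

namespace Cfsg.Agent.H431.Block

open Equiv Equiv.Perm Cfsg.Agent.Characters.Core Cfsg.Agent.OddOrderCharacters.VChar
open Cfsg.Agent.H431.ExcChar Cfsg.Agent.OddOrderCharacters.IndRes

open scoped ComplexConjugate

variable {G : Type*} [Group G]

/-- controlled fusion of the elements with a component of order 3 -/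
def Fus (H : Subgroup G) (E : H ≃* K) : Prop :=
  ∀ (y : H) (i : Fin 3), cmp E i y ≠ 1 → sign (cmp E i y) = 1 → ∀ g : G, g * y * g⁻¹ ∈ H → g ∈ H

/-- `v_i` as an element of `G` -/
def zg {H : Subgroup G} (E : H ≃* K) (i : Fin 3) : G := ((zz E i : H) : G)

/-- `v_i t_i` as an element of `G` -/
def wg {H : Subgroup G} (E : H ≃* K) (i : Fin 3) : G := ((ww E i : H) : G)

theorem ph_ne {x : Perm (Fin 3)} (h : ph x ≠ 0) : x ≠ 1 ∧ sign x = 1 := by
  by_contra hcon
  exact h (by rw [ph, phZ, if_neg hcon, Int.cast_zero])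

section

variable [Fintype G] (H : Subgroup G) [Fintype H] (E : H ≃* K)

theorem supp_phi (hF : Fus H E) (i : Fin 3) (y : H) (hy : pf E (aph i) y ≠ 0) (g : G)
    (hg : g * y * g⁻¹ ∈ H) : g ∈ H := by
  rw [pf_aph] at hy
  obtain ⟨h1, h2⟩ := ph_ne hy
  exact hF y i h1 h2 g hg

theorem supp_psi (hF : Fus H E) (i : Fin 3) (y : H) (hy : pf E (aps i) y ≠ 0) (g : G)
    (hg : g * y * g⁻¹ ∈ H) : g ∈ H := by
  rw [pf_aps] at hy
  obtain ⟨h1, h2⟩ := ph_ne (left_ne_zero_of_mul hy)
  exact hF y i h1 h2 g hg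

/-- `X_i` -/
noncomputable def XX (i : Fin 3) : G → ℂ := indFun H (pf E (aph i))

/-- `Y_i` -/
noncomputable def YY (i : Fin 3) : G → ℂ := indFun H (pf E (aps i))

theorem gen_XX (i : Fin 3) : IsGeneralizedCharacter G (XX H E i) :=
  isGeneralizedCharacter_indFun H (gen_phi E i)

theorem gen_YY (i : Fin 3) : IsGeneralizedCharacter G (YY H E i) :=
  isGeneralizedCharacter_indFun H (gen_psi E i)

theorem XX_XX (hF : Fus H E) (i : Fin 3) : classInner (XX H E i) (XX H E i) = 3 := by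
  rw [XX, classInner_ind_ind H (gen_isClassFunction (gen_phi E i)) (supp_phi H E hF i), phi_phi]

theorem XX_XX' (hF : Fus H E) {i j : Fin 3} (h : i ≠ j) :
    classInner (XX H E i) (XX H E j) = 1 := by
  rw [XX, XX, classInner_ind_ind H (gen_isClassFunction (gen_phi E j)) (supp_phi H E hF i),
    phi_phi' E h]

theorem YY_YY (hF : Fus H E) (i : Fin 3) : classInner (YY H E i) (YY H E i) = 3 := by
  rw [YY, classInner_ind_ind H (gen_isClassFunction (gen_psi E i)) (supp_psi H E hF i), psi_psi]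

theorem XX_YY (hF : Fus H E) (i : Fin 3) : classInner (XX H E i) (YY H E i) = 0 := by
  rw [XX, YY, classInner_ind_ind H (gen_isClassFunction (gen_psi E i)) (supp_phi H E hF i), phi_psi]

theorem XX_YY' (hF : Fus H E) {i j : Fin 3} (h : i ≠ j) :
    classInner (XX H E i) (YY H E j) = 1 := by
  rw [XX, YY, classInner_ind_ind H (gen_isClassFunction (gen_psi E j)) (supp_phi H E hF i),
    phi_psi' E h]

theorem XX_frob (i : Fin 3) {χ : G → ℂ} (hχ : IsClassFunction G χ) :
    classInner (XX H E i) χ = classInner (pf E (aph i)) (res H χ) :=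
  classInner_indFun_left H _ hχ

theorem YY_frob (i : Fin 3) {χ : G → ℂ} (hχ : IsClassFunction G χ) :
    classInner (YY H E i) χ = classInner (pf E (aps i)) (res H χ) :=
  classInner_indFun_left H _ hχ

theorem XX_one (i : Fin 3) : classInner (XX H E i) 1 = 1 := by
  rw [XX_frob H E i (isIrr_isClassFunction isIrr_one)]
  exact phi_one E i

theorem YY_one (i : Fin 3) : classInner (YY H E i) 1 = 0 := by
  rw [YY_frob H E i (isIrr_isClassFunction isIrr_one)]
  exact psi_one E i

/-- `X_i` vanishes at elements having no conjugate in the support of `φ_i` -/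
theorem XX_eq_zero (i : Fin 3) {g : G}
    (h : ∀ (x : G) (hx : x⁻¹ * g * x ∈ H), ¬ (cmp E i ⟨x⁻¹ * g * x, hx⟩ ≠ 1 ∧
      sign (cmp E i ⟨x⁻¹ * g * x, hx⟩) = 1)) : XX H E i g = 0 := by
  rw [XX, indFun_apply, Finset.sum_eq_zero, mul_zero]
  intro x _
  by_cases hx : x⁻¹ * g * x ∈ H
  · rw [extendByZero_of_mem H _ hx, pf_aph]
    by_contra hcon
    exact h x hx (ph_ne hcon)
  · exact extendByZero_of_notMem H _ hx

theorem XX_apply_one (i : Fin 3) : XX H E i 1 = 0 := by
  apply XX_eq_zero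
  rintro x hx ⟨h1, -⟩
  apply h1
  have : (⟨x⁻¹ * 1 * x, hx⟩ : H) = 1 := Subtype.ext (by simp)
  rw [this, map_one]

/-- the constituents of `X_i` -/
theorem exists_AB (hF : Fus H E) : ∃ A B : Fin 3 → G → ℂ, (∀ i, IsIrrCharacter G (A i)) ∧
    (∀ i, IsIrrCharacter G (B i)) ∧ (∀ i, A i ≠ 1) ∧ (∀ i, B i ≠ 1) ∧ (∀ i, A i ≠ B i) ∧
    ∀ i, XX H E i = 1 + A i - B i := by
  have h := fun i => SmallSimple.NormThree.exists_of_norm_three (gen_XX H E i) (XX_one H E i)
    (XX_XX H E hF i) (XX_apply_one H E i)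
  choose A B h1 h2 h3 h4 h5 h6 using h
  exact ⟨A, B, h1, h2, h3, h4, h5, h6⟩

variable {H E}

theorem inner_one {χ : G → ℂ} (hχ : IsIrrCharacter G χ) (h : χ ≠ 1) : classInner 1 χ = 0 :=
  classInner_irr_ne isIrr_one hχ (Ne.symm h)

theorem inner_one' {χ : G → ℂ} (hχ : IsIrrCharacter G χ) (h : χ ≠ 1) : classInner χ 1 = 0 :=
  classInner_irr_ne hχ isIrr_one h

/-- the constituents for different `i` are different -/
theorem distinct (hF : Fus H E) {A B : Fin 3 → G → ℂ} (hA : ∀ i, IsIrrCharacter G (A i))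
    (hB : ∀ i, IsIrrCharacter G (B i)) (hA1 : ∀ i, A i ≠ 1) (hB1 : ∀ i, B i ≠ 1)
    (hAB : ∀ i, A i ≠ B i) (hX : ∀ i, XX H E i = 1 + A i - B i) {i j : Fin 3} (hij : i ≠ j) :
    A i ≠ A j ∧ A i ≠ B j ∧ B i ≠ A j ∧ B i ≠ B j := by
  classical
  have h := XX_XX' H E hF hij
  rw [hX, hX, classInner_sub_left, classInner_add_left, classInner_sub_right, classInner_add_right,
    classInner_sub_right, classInner_add_right, classInner_sub_right, classInner_add_right,
    inner_one (hA j) (hA1 j), inner_one (hB j) (hB1 j), inner_one' (hA i) (hA1 i),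
    inner_one' (hB i) (hB1 i), classInner_irr isIrr_one isIrr_one, if_pos rfl,
    classInner_irr (hA i) (hA j), classInner_irr (hA i) (hB j), classInner_irr (hB i) (hA j),
    classInner_irr (hB i) (hB j)] at h
  have e1 : A i = A j → A i ≠ B j ∧ B i ≠ A j := fun h1 =>
    ⟨fun h2 => hAB j (h1.symm.trans h2), fun h2 => hAB i (h1.trans h2.symm)⟩
  have e2 : B i = B j → A i ≠ B j ∧ B i ≠ A j := fun h1 =>
    ⟨fun h2 => hAB i (h2.trans h1.symm), fun h2 => hAB j (h2.symm.trans h1)⟩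
  by_cases h1 : A i = A j
  · exfalso
    rw [if_pos h1, if_neg (e1 h1).1, if_neg (e1 h1).2] at h
    split_ifs at h <;> norm_num at h
  · by_cases h2 : B i = B j
    · exfalso
      rw [if_neg h1, if_pos h2, if_neg (e2 h2).1, if_neg (e2 h2).2] at h
      norm_num at h
    · rw [if_neg h1, if_neg h2] at h
      refine ⟨h1, ?_, ?_, h2⟩
      · intro h3
        rw [if_pos h3] at h
        split_ifs at h <;> norm_num at h
      · intro h3
        rw [if_pos h3] at h
        split_ifs at h <;> norm_num at h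

theorem arith {a b c d e f : ℤ} (h1 : a = b) (h2 : c - d = 1) (h3 : e - f = 1)
    (h : a ^ 2 + c ^ 2 + e ^ 2 + (b ^ 2 + d ^ 2 + f ^ 2) ≤ 3) :
    a = 0 ∧ (c = 0 ∨ c = 1) ∧ (e = 0 ∨ e = 1) := by
  subst h1
  have hd : d = c - 1 := by omega
  have hf : f = e - 1 := by omega
  subst hd hf
  have k1 : ∀ x : ℤ, 1 ≤ x ^ 2 + (x - 1) ^ 2 := by
    intro x
    rcases le_or_gt x 0 with h | h <;> nlinarith
  have k2 : ∀ x : ℤ, x ^ 2 + (x - 1) ^ 2 ≤ 2 → x = 0 ∨ x = 1 := by
    intro x hx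
    have : 0 ≤ x := by nlinarith
    have : x ≤ 1 := by nlinarith
    omega
  have e1 := k1 c
  have e2 := k1 e
  refine ⟨?_, k2 c (by nlinarith [sq_nonneg a]), k2 e (by nlinarith [sq_nonneg a])⟩
  have h4 : a ^ 2 ≤ 0 := by nlinarith
  have h5 := sq_nonneg a
  have h6 : a ^ 2 = 0 := le_antisymm h4 h5
  exact pow_eq_zero_iff (two_ne_zero) |>.1 h6

/-- the multiplicities of the `A_i` in `Y_j` -/
theorem YY_A (hF : Fus H E) {A B : Fin 3 → G → ℂ} (hA : ∀ i, IsIrrCharacter G (A i))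
    (hB : ∀ i, IsIrrCharacter G (B i)) (hA1 : ∀ i, A i ≠ 1) (hB1 : ∀ i, B i ≠ 1)
    (hAB : ∀ i, A i ≠ B i) (hX : ∀ i, XX H E i = 1 + A i - B i) (j : Fin 3) :
    classInner (YY H E j) (A j) = 0 ∧ ∀ i, i ≠ j → ∃ c : ℤ, (c = 0 ∨ c = 1) ∧
      classInner (YY H E j) (A i) = c := by
  have hd := fun {i j : Fin 3} (hij : i ≠ j) => distinct hF hA hB hA1 hB1 hAB hX hij
  have hinj : Function.Injective (Sum.elim A B) := by
    rintro (a | a) (b | b) h
    · by_contra hcon
      exact (hd (fun h' => hcon (congrArg Sum.inl h'))).1 h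
    · exfalso
      by_cases hab : a = b
      · subst hab; exact hAB a h
      · exact (hd hab).2.1 h
    · exfalso
      by_cases hab : a = b
      · subst hab; exact hAB a h.symm
      · exact (hd hab).2.2.1 h
    · by_contra hcon
      exact (hd (fun h' => hcon (congrArg Sum.inr h'))).2.2.2 h
  obtain ⟨m, hm, hle⟩ := bessel (gen_YY H E j) (n := 3) (by rw [YY_YY H E hF]; norm_num)
    (Sum.elim A B) (by rintro (i | i); exacts [hA i, hB i]) hinj
  rw [Fintype.sum_sum_type, Fin.sum_univ_three, Fin.sum_univ_three] at hle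
  have hXY : ∀ i, classInner (YY H E j) (XX H E i) = (m (Sum.inl i) - m (Sum.inr i) : ℤ) := by
    intro i
    rw [hX, classInner_sub_right, classInner_add_right, YY_one, zero_add]
    have e1 := hm (Sum.inl i)
    have e2 := hm (Sum.inr i)
    simp only [Sum.elim_inl, Sum.elim_inr] at e1 e2
    rw [e1, e2]
    push_cast
    rfl
  have e0 : m (Sum.inl j) = m (Sum.inr j) := by
    have h1 := hXY j
    rw [gen_inner_comm (gen_YY H E j) (gen_XX H E j), XX_YY H E hF] at h1
    have h2 : (m (Sum.inl j) - m (Sum.inr j) : ℤ) = 0 := by exact_mod_cast h1.symm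
    omega
  have e1 : ∀ i, i ≠ j → m (Sum.inl i) - m (Sum.inr i) = 1 := by
    intro i hij
    have h1 := hXY i
    rw [gen_inner_comm (gen_YY H E j) (gen_XX H E i), XX_YY' H E hF hij] at h1
    exact_mod_cast h1.symm
  have hcA : ∀ i, classInner (YY H E j) (A i) = m (Sum.inl i) := fun i => hm (Sum.inl i)
  have main : m (Sum.inl j) = 0 ∧ ∀ i, i ≠ j → m (Sum.inl i) = 0 ∨ m (Sum.inl i) = 1 := by
    have h3c : ∀ i : Fin 3, i = 0 ∨ i = 1 ∨ i = 2 := by decide
    rcases h3c j with rfl | rfl | rfl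
    · obtain ⟨h1, h2, h3⟩ := arith e0 (e1 1 (by decide)) (e1 2 (by decide)) (by linarith)
      refine ⟨h1, fun i hi => ?_⟩
      rcases h3c i with rfl | rfl | rfl
      · exact absurd rfl hi
      · exact h2
      · exact h3
    · obtain ⟨h1, h2, h3⟩ := arith e0 (e1 0 (by decide)) (e1 2 (by decide)) (by linarith)
      refine ⟨h1, fun i hi => ?_⟩
      rcases h3c i with rfl | rfl | rfl
      · exact h2
      · exact absurd rfl hi
      · exact h3
    · obtain ⟨h1, h2, h3⟩ := arith e0 (e1 0 (by decide)) (e1 1 (by decide)) (by linarith)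
      refine ⟨h1, fun i hi => ?_⟩
      rcases h3c i with rfl | rfl | rfl
      · exact h2
      · exact h3
      · exact absurd rfl hi
  refine ⟨by rw [hcA, main.1]; simp, fun i hi => ⟨m (Sum.inl i), main.2 i hi, hcA i⟩⟩

/-- the involutions `v_i`, `v_j` are not conjugate in `G` -/
theorem not_conj (hF : Fus H E) {A B : Fin 3 → G → ℂ} (hA : ∀ i, IsIrrCharacter G (A i))
    (hB : ∀ i, IsIrrCharacter G (B i)) (hA1 : ∀ i, A i ≠ 1) (hB1 : ∀ i, B i ≠ 1)
    (hAB : ∀ i, A i ≠ B i) (hX : ∀ i, XX H E i = 1 + A i - B i) {i j : Fin 3} (hij : i ≠ j)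
    (g : G) : g * zg E i * g⁻¹ ≠ zg E j := by
  intro hg
  have hcl := isIrr_isClassFunction (hA i)
  have hclr : IsClassFunction H (res H (A i)) := isClassFunction_res H hcl
  -- the value at `w_i`
  have e1 : conj (A i (wg E i)) = 1 := by
    have h := inner_ww E i hclr
    rw [← XX_frob H E i hcl, ← YY_frob H E i hcl, (YY_A hF hA hB hA1 hB1 hAB hX i).1, hX,
      classInner_sub_left, classInner_add_left, inner_one (hA i) (hA1 i),
      classInner_irr_self (hA i), classInner_irr_ne (hB i) (hA i) (Ne.symm (hAB i)), res_apply] at h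
    rw [wg, ← h]; norm_num
  -- the value at `w_j`
  obtain ⟨c, hc, hc'⟩ := (YY_A hF hA hB hA1 hB1 hAB hX j).2 i hij
  have hd := distinct hF hA hB hA1 hB1 hAB hX hij
  have e2 : conj (A i (wg E j)) = -c := by
    have h := inner_ww E j hclr
    rw [← XX_frob H E j hcl, ← YY_frob H E j hcl, hc', hX,
      classInner_sub_left, classInner_add_left, inner_one (hA i) (hA1 i),
      classInner_irr_ne (hA j) (hA i) (Ne.symm hd.1),
      classInner_irr_ne (hB j) (hA i) (Ne.symm hd.2.1), res_apply] at h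
    rw [wg, ← h]; ring
  obtain ⟨N, hN⟩ := gen_inner (gen_th E i) (OddOrderCharacters.VChar.gen_restrict H (gen_of_irr (hA i)))
  obtain ⟨N', hN'⟩ := gen_inner (gen_th E j) (OddOrderCharacters.VChar.gen_restrict H (gen_of_irr (hA i)))
  have e3 : 3 * classInner (pf E (ath i)) (res H (A i)) =
      conj (A i (zg E i)) + 2 * conj (A i (wg E i)) := inner_zz E i hclr
  have e4 : 3 * classInner (pf E (ath j)) (res H (A i)) =
      conj (A i (zg E j)) + 2 * conj (A i (wg E j)) := inner_zz E j hclr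
  have e5 : A i (zg E j) = A i (zg E i) := by rw [← hg, hcl]
  rw [e1] at e3
  rw [e2, e5] at e4
  have hN1 : classInner (pf E (ath i)) (res H (A i)) = N := hN
  have hN2 : classInner (pf E (ath j)) (res H (A i)) = N' := hN'
  rw [hN1] at e3
  rw [hN2] at e4
  have e6 : (((3 * N - 3 * N' : ℤ)) : ℂ) = ((2 + 2 * c : ℤ) : ℂ) := by
    push_cast
    linear_combination e3 - e4
  have e7 : 3 * N - 3 * N' = 2 + 2 * c := by exact_mod_cast e6
  rcases hc with rfl | rfl <;> omega

theorem mul_inv_self_of_sq {u v : G} (hu : u * u = 1) (hv : v * v = 1) : u * (u * v) * u⁻¹ = (u * v)⁻¹ := by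
  have h1 : u⁻¹ = u := inv_eq_of_mul_eq_one_left hu
  have h2 : v⁻¹ = v := inv_eq_of_mul_eq_one_left hv
  rw [mul_inv_rev, h1, h2, ← mul_assoc, hu, one_mul]

/-- `A_i` has `v_i` in its kernel -/
theorem apply_zz_eq (hF : Fus H E) {A B : Fin 3 → G → ℂ} (hA : ∀ i, IsIrrCharacter G (A i))
    (hB : ∀ i, IsIrrCharacter G (B i)) (hA1 : ∀ i, A i ≠ 1) (hB1 : ∀ i, B i ≠ 1)
    (hAB : ∀ i, A i ≠ B i) (hX : ∀ i, XX H E i = 1 + A i - B i) (i : Fin 3) :
    A i (zg E i) = A i 1 := by
  have hz2 : zg E i * zg E i = 1 := congrArg Subtype.val (zz_mul E i)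
  apply apply_eq_of_class_sum (hA i) (hB i)
  · intro a b
    rw [← hX]
    apply XX_eq_zero
    rintro x hx ⟨h1, h2⟩
    -- the two involutions
    have hu2 : (x⁻¹ * a * zg E i * (x⁻¹ * a)⁻¹) * (x⁻¹ * a * zg E i * (x⁻¹ * a)⁻¹) = 1 := by
      calc _ = x⁻¹ * a * (zg E i * zg E i) * (x⁻¹ * a)⁻¹ := by group
        _ = 1 := by rw [hz2]; group
    have hv2 : (x⁻¹ * b * zg E i * (x⁻¹ * b)⁻¹) * (x⁻¹ * b * zg E i * (x⁻¹ * b)⁻¹) = 1 := by
      calc _ = x⁻¹ * b * (zg E i * zg E i) * (x⁻¹ * b)⁻¹ := by group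
        _ = 1 := by rw [hz2]; group
    have huv : x⁻¹ * (a * zg E i * a⁻¹ * (b * zg E i * b⁻¹)) * x =
        (x⁻¹ * a * zg E i * (x⁻¹ * a)⁻¹) * (x⁻¹ * b * zg E i * (x⁻¹ * b)⁻¹) := by group
    -- both lie in `H`
    have huH : x⁻¹ * a * zg E i * (x⁻¹ * a)⁻¹ ∈ H := by
      apply hF ⟨_, hx⟩ i h1 h2
      show x⁻¹ * a * zg E i * (x⁻¹ * a)⁻¹ *
        (x⁻¹ * (a * zg E i * a⁻¹ * (b * zg E i * b⁻¹)) * x) *
        (x⁻¹ * a * zg E i * (x⁻¹ * a)⁻¹)⁻¹ ∈ H
      rw [huv, mul_inv_self_of_sq hu2 hv2, ← huv]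
      exact inv_mem hx
    have hvH : x⁻¹ * b * zg E i * (x⁻¹ * b)⁻¹ ∈ H := by
      have := hx
      rw [huv] at this
      exact (Subgroup.mul_mem_cancel_left H huH).1 this
    -- an involution of `H` conjugate to `v_i` has trivial `i`-component
    have key : ∀ (y : G) (hy : y * zg E i * y⁻¹ ∈ H), cmp E i ⟨_, hy⟩ = 1 := by
      intro y hy
      have hk2 : (E ⟨_, hy⟩ : Fin 3 → Perm (Fin 3)) * (E ⟨_, hy⟩ : Fin 3 → Perm (Fin 3)) = 1 := by
        have h3 : (⟨_, hy⟩ : H) * ⟨_, hy⟩ = 1 := by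
          apply Subtype.ext
          show y * zg E i * y⁻¹ * (y * zg E i * y⁻¹) = 1
          calc _ = y * (zg E i * zg E i) * y⁻¹ := by group
            _ = 1 := by rw [hz2]; group
        have h4 : (E (⟨_, hy⟩ * ⟨_, hy⟩ : H) : Fin 3 → Perm (Fin 3)) = (E (1 : H) : Fin 3 → Perm (Fin 3)) :=
          congrArg (fun z : H => (E z : Fin 3 → Perm (Fin 3))) h3
        rw [map_mul, map_one] at h4
        exact h4
      have hk1 : (E ⟨_, hy⟩ : Fin 3 → Perm (Fin 3)) ≠ 1 := by
        intro h3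
        have h4 : (⟨_, hy⟩ : H) = 1 := by
          apply E.injective
          rw [map_one]
          exact Subtype.ext h3
        have h5 : y * zg E i * y⁻¹ = 1 := congrArg Subtype.val h4
        have h6 : zg E i = 1 := by
          calc zg E i = y⁻¹ * (y * zg E i * y⁻¹) * y := by group
            _ = 1 := by rw [h5]; group
        have h7 : zz E i = 1 := Subtype.ext h6
        rw [zz, map_eq_one_iff E.symm E.symm.injective] at h7
        exact zf_ne i (congrArg Subtype.val h7)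
      obtain ⟨j, hj1, hj2⟩ := exists_zf (E ⟨_, hy⟩).2 hk2 hk1
      by_cases hij : i = j
      · subst hij; exact hj1
      · exfalso
        obtain ⟨g, hg, hgx⟩ := conj_zf (E ⟨_, hy⟩).2 hj1 hj2
        have h3 : E.symm ⟨g, hg⟩ * ⟨_, hy⟩ * (E.symm ⟨g, hg⟩)⁻¹ = zz E j := by
          apply E.injective
          rw [map_mul, map_mul, map_inv, MulEquiv.apply_symm_apply, zz, MulEquiv.apply_symm_apply]
          exact Subtype.ext hgx
        have h4 : (E.symm ⟨g, hg⟩ : G) * (y * zg E i * y⁻¹) * (E.symm ⟨g, hg⟩ : G)⁻¹ = zg E j :=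
          congrArg Subtype.val h3
        apply not_conj hF hA hB hA1 hB1 hAB hX hij ((E.symm ⟨g, hg⟩ : G) * y)
        rw [← h4]
        group
    apply h1
    have h3 : (⟨x⁻¹ * (a * zg E i * a⁻¹ * (b * zg E i * b⁻¹)) * x, hx⟩ : H) =
        ⟨_, huH⟩ * ⟨_, hvH⟩ := Subtype.ext huv
    rw [h3, map_mul, key _ huH, key _ hvH, mul_one]
  · rw [← hX]; exact XX_apply_one H E i
  · rw [← hX]
    apply XX_eq_zero
    rintro x hx ⟨h1, h2⟩
    have h3 : (⟨_, hx⟩ : H) * ⟨_, hx⟩ = 1 := by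
      apply Subtype.ext
      show x⁻¹ * zg E i * x * (x⁻¹ * zg E i * x) = 1
      calc _ = x⁻¹ * (zg E i * zg E i) * x := by group
        _ = 1 := by rw [hz2]; group
    have h4 := congrArg (cmp E i) h3
    rw [map_mul, map_one] at h4
    rcases sq_one _ h4 with h5 | h5
    · exact h1 h5
    · rw [h2] at h5
      exact absurd h5 (by decide)

end

/-- **Main result.** Each `v_i` lies in a proper normal subgroup. -/
theorem exists_normal [Finite G] (H : Subgroup G) (E : H ≃* K) (hF : Fus H E) (i : Fin 3) :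
    ∃ N : Subgroup G, N.Normal ∧ N ≠ ⊤ ∧ zg E i ∈ N := by
  classical
  have := Fintype.ofFinite G
  have := Fintype.ofFinite H
  obtain ⟨A, B, hA, hB, hA1, hB1, hAB, hX⟩ := exists_AB H E hF
  have hz := apply_zz_eq hF hA hB hA1 hB1 hAB hX i
  have hmul := fun {g : G} (hg : A i g = A i 1) =>
    OddOrderCharacters.PF4b.Prime.char_mul_of_ker (isIrr_isCharacter (hA i)) hg
  let N : Subgroup G :=
    { carrier := {g | A i g = A i 1}
      one_mem' := rfl
      mul_mem' := by
        intro a b ha hb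
        show A i (a * b) = A i 1
        rw [hmul ha b]
        exact hb
      inv_mem' := by
        intro a ha
        show A i a⁻¹ = A i 1
        have := hmul ha a⁻¹
        rw [mul_inv_cancel] at this
        exact this.symm }
  refine ⟨N, ⟨?_⟩, ?_, hz⟩
  · intro n hn g
    show A i (g * n * g⁻¹) = A i 1
    rw [isIrr_isClassFunction (hA i)]
    exact hn
  · intro hN
    apply hA1 i
    have h1 : ∀ g : G, A i g = A i 1 := by
      intro g
      have : g ∈ N := by rw [hN]; trivial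
      exact this
    by_contra hcon
    have h2 := classInner_irr_ne isIrr_one (hA i) (Ne.symm hcon)
    rw [classInner_def] at h2
    have h3 : ∑ g : G, (1 : G → ℂ) g * conj (A i g) = (Nat.card G : ℂ) * conj (A i 1) := by
      rw [Finset.sum_congr rfl (fun g _ => by rw [h1 g, Pi.one_apply, one_mul]), Finset.sum_const,
        Finset.card_univ, nsmul_eq_mul, Nat.card_eq_fintype_card]
    rw [h3, ← mul_assoc, inv_mul_cancel₀ card_ne_zero_complex, one_mul] at h2
    exact isIrr_apply_one_ne_zero (hA i) (by simpa using h2)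

end Cfsg.Agent.H431.Block
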