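import Mathlib
import Cfsg.Agent.H431.BlockMain
import Cfsg.Agent.S0058
import Cfsg.Agent.Classification.InvCentPL.Tri

/-!
# A subgroup `3^3 : 2^2` with controlled fusion is the whole group
-/

set_option autoImplicit false

open Cfsg

namespace Cfsg.Agent.H431.Block

open Equiv Equiv.Perm

open scoped Pointwise

variable {G : Type*} [Group G]

/-- the situation -/
structure Sit (H : Subgroup G) (E : H ≃* K) (T : Subgroup G) : Prop where
  le : T ≤ H
  card : Nat.card T = 27
  nor : Subgroup.normalizer (T : Set G) = H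
  cen : ∀ t ∈ T, t ≠ 1 → Subgroup.centralizer ({t} : Set G) ≤ H

theorem sign_odd_pow {x : Perm (Fin 3)} {n : ℕ} (hn : Odd n) (h : x ^ n = 1) : sign x = 1 := by
  have h1 : sign x ^ n = 1 := by rw [← map_pow, h, map_one]
  obtain ⟨k, rfl⟩ := hn
  rw [pow_succ, pow_mul, Int.units_sq, one_pow, one_mul] at h1
  exact h1

theorem cube_one : ∀ x : Perm (Fin 3), sign x = 1 → x ^ 3 = 1 := by decide

theorem zf_facts : ∀ i : Fin 3, zf i i = 1 ∧ sign (zf i (i + 1)) = -1 := by decide

theorem tri_facts : ∀ i j : Fin 3, sign (tri i 1 c3 1 j) = 1 := by decide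

theorem comm_even : ∀ x y : Perm (Fin 3), sign x = 1 → sign y = 1 → x * y = y * x := by decide

theorem conj_odd : ∀ x y : Perm (Fin 3), sign x = -1 → sign y = -1 → ∃ g, g * x * g⁻¹ = y := by
  decide

section

variable {H : Subgroup G} {E : H ≃* K} {T : Subgroup G}

theorem eq_one_of_cmp {x : H} (h : ∀ i, cmp E i x = 1) : x = 1 := by
  apply E.injective
  rw [map_one]
  apply Subtype.ext
  funext i
  exact h i

theorem cmp_surjective (i : Fin 3) (x : Perm (Fin 3)) : ∃ y : H, cmp E i y = x := by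
  refine ⟨E.symm ⟨tri i x x 1, tri_mem i _ _ _ (by rw [map_one, mul_one]; exact Int.units_mul_self _)⟩, ?_⟩
  rw [cmp_apply, MulEquiv.apply_symm_apply]
  simp [tri]

namespace Sit

variable (S : Sit H E T)

include S

theorem finite_H : Finite H := Finite.of_equiv _ E.symm.toEquiv

theorem mem_of_sign {y : H} (h : ∀ i, sign (cmp E i y) = 1) : (y : G) ∈ T := by
  have := S.finite_H
  have hn : (T.subgroupOf H).Normal := by
    rw [← S.nor]
    exact Subgroup.normal_in_normalizer
  have hc : Nat.card (T.subgroupOf H) = 27 := by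
    rw [← S.card]
    exact Nat.card_congr (Subgroup.subgroupOfEquivOfLe S.le).toEquiv
  have hH : Nat.card H = 108 := by rw [Nat.card_congr E.toEquiv, card_K]
  have hi : (T.subgroupOf H).index = 4 := by
    have := Subgroup.card_mul_index (T.subgroupOf H)
    rw [hc, hH] at this
    omega
  have h4 : y ^ 4 ∈ T.subgroupOf H := by
    rw [← hi]
    exact Subgroup.pow_index_mem _ y
  have h3 : y ^ 3 = 1 := by
    apply eq_one_of_cmp (E := E)
    intro i
    rw [map_pow]
    exact cube_one _ (h i)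
  have h5 : y ^ 4 = y := by rw [pow_succ, h3, one_mul]
  rw [h5] at h4
  exact h4

theorem sign_of_mem {y : H} (h : (y : G) ∈ T) (i : Fin 3) : sign (cmp E i y) = 1 := by
  have := S.finite_H
  have hf : Finite T := by
    apply Nat.finite_of_card_ne_zero
    rw [S.card]
    norm_num
  have h1 : (y : G) ^ 27 = 1 := by
    have h2 : (⟨y, h⟩ : T) ^ Nat.card T = 1 := pow_card_eq_one'
    rw [S.card] at h2
    exact congrArg Subtype.val h2
  have h2 : y ^ 27 = 1 := Subtype.ext h1
  apply sign_odd_pow (n := 27) (by decide)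
  rw [← map_pow, h2, map_one]

theorem mem_iff {y : H} : (y : G) ∈ T ↔ ∀ i, sign (cmp E i y) = 1 :=
  ⟨S.sign_of_mem, S.mem_of_sign⟩

theorem comm {x y : G} (hx : x ∈ T) (hy : y ∈ T) : x * y = y * x := by
  have h : (⟨x, S.le hx⟩ : H) * ⟨y, S.le hy⟩ = ⟨y, S.le hy⟩ * ⟨x, S.le hx⟩ := by
    apply E.injective
    rw [map_mul, map_mul]
    apply Subtype.ext
    funext i
    exact comm_even _ _ (S.sign_of_mem (y := ⟨x, S.le hx⟩) hx i) (S.sign_of_mem (y := ⟨y, S.le hy⟩) hy i)
  exact congrArg Subtype.val h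

theorem mem_of_pow {y : G} (hy : y ∈ H) {n : ℕ} (hn : Odd n) (h : y ^ n = 1) : y ∈ T := by
  apply S.mem_of_sign (y := ⟨y, hy⟩)
  intro i
  apply sign_odd_pow hn
  rw [← map_pow]
  have : (⟨y, hy⟩ : H) ^ n = 1 := Subtype.ext h
  rw [this, map_one]

theorem cube {x : G} (hx : x ∈ T) : x ^ 3 = 1 := by
  have : (⟨x, S.le hx⟩ : H) ^ 3 = 1 := by
    apply eq_one_of_cmp (E := E)
    intro i
    rw [map_pow]
    exact cube_one _ (S.sign_of_mem (y := ⟨x, S.le hx⟩) hx i)
  exact congrArg Subtype.val this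

/-- `T` is a trivial intersection subgroup -/
theorem ti [Finite G] {g x : G} (hx : x ∈ T) (hx1 : x ≠ 1) (hg : g * x * g⁻¹ ∈ T) : g ∈ H := by
  have h1 : g * x * g⁻¹ ≠ 1 := by
    intro h
    apply hx1
    calc x = g⁻¹ * (g * x * g⁻¹) * g := by group
      _ = 1 := by rw [h]; group
  have h2 : ∀ t ∈ T, g * t * g⁻¹ ∈ T := by
    intro t ht
    have h3 : g * t * g⁻¹ ∈ H := by
      apply S.cen _ hg h1
      rw [Subgroup.mem_centralizer_singleton_iff]
      calc g * t * g⁻¹ * (g * x * g⁻¹) = g * (t * x) * g⁻¹ := by group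
        _ = g * (x * t) * g⁻¹ := by rw [S.comm ht hx]
        _ = g * x * g⁻¹ * (g * t * g⁻¹) := by group
    apply S.mem_of_pow h3 (n := 3) (by decide)
    have h4 : (g * t * g⁻¹) ^ 3 = g * t ^ 3 * g⁻¹ := by
      simp only [pow_succ, pow_zero, one_mul]; group
    rw [h4, S.cube ht]
    group
  rw [← S.nor]
  exact Subgroup.mem_normalizer_fintype h2

/-- the elements with a component of order 3 have controlled fusion -/
theorem fus [Finite G] : Fus H E := by
  intro y i h1 h2 g hg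
  have h3 : ∀ (z : H), (z ^ 4 : G) ∈ T := by
    intro z
    have := S.mem_of_sign (y := z ^ 4) (by
      intro i
      rw [map_pow, map_pow]
      rcases Int.units_eq_one_or (sign (cmp E i z)) with h | h <;> rw [h] <;> decide)
    simpa using this
  have h4 : ((y : G) ^ 4) ≠ 1 := by
    intro h
    have h5 : y ^ 4 = 1 := Subtype.ext h
    have h6 : (cmp E i y) ^ 4 = 1 := by rw [← map_pow, h5, map_one]
    rw [pow_succ, cube_one _ h2, one_mul] at h6
    exact h1 h6
  apply S.ti (h3 y) h4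
  have h5 := h3 ⟨_, hg⟩
  have h6 : (g * (y : G) * g⁻¹) ^ 4 = g * (y : G) ^ 4 * g⁻¹ := by
    simp only [pow_succ, pow_zero, one_mul]; group
  rw [← h6]
  exact h5

theorem exists_sylow [Finite G] : ∃ P : Sylow 3 G, (P : Subgroup G) = T := by
  have h3 : Fact (Nat.Prime 3) := ⟨Nat.prime_three⟩
  apply Classification.InvCentPL.Tri.sylow_of_pelt_normalizer
  · rw [IsPGroup.iff_card]
    exact ⟨3, by rw [S.card]; norm_num⟩
  · intro g hg k hk
    rw [S.nor] at hg
    exact S.mem_of_pow hg (Odd.pow (by decide : Odd 3)) hk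

/-- a normal subgroup containing a nontrivial element of `T` supplements `H` -/
theorem sup_eq_top [Finite G] (N : Subgroup G) [hN : N.Normal] {x : G} (hx : x ∈ T) (hx1 : x ≠ 1)
    (hxN : x ∈ N) (g : G) : ∃ n ∈ N, ∃ h ∈ H, n * h = g := by
  have h3 : Fact (Nat.Prime 3) := ⟨Nat.prime_three⟩
  obtain ⟨P, hP⟩ := S.exists_sylow
  -- a Sylow 3-subgroup of `N`
  let Q : Sylow 3 N := default
  have hQ : IsPGroup 3 ((Q : Subgroup N).map N.subtype) := Q.isPGroup'.map _
  obtain ⟨R, hR⟩ := hQ.exists_le_sylow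
  obtain ⟨a, ha⟩ := MulAction.exists_smul_eq G P R
  have hRa : ∀ y ∈ (Q : Subgroup N).map N.subtype, a⁻¹ * y * a ∈ T := by
    intro y hy
    have h4 := hR hy
    rw [← ha] at h4
    have h5 : y ∈ MulAut.conj a • (P : Subgroup G) := h4
    rw [Subgroup.mem_pointwise_smul_iff_inv_smul_mem] at h5
    rw [← hP]
    simpa using h5
  -- a nontrivial element of `Q`
  have hdvd : 3 ∣ Nat.card N := by
    have h5 : orderOf (⟨x, hxN⟩ : N) = 3 := by
      apply orderOf_eq_prime
      · exact Subtype.ext (S.cube hx)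
      · intro h
        exact hx1 (congrArg Subtype.val h)
    rw [← h5]
    exact orderOf_dvd_natCard _
  have hQ1 : ∃ s ∈ (Q : Subgroup N).map N.subtype, s ≠ 1 := by
    by_contra hcon
    push Not at hcon
    have h6 : (Q : Subgroup N) = ⊥ := by
      rw [eq_bot_iff]
      intro y hy
      rw [Subgroup.mem_bot]
      exact Subtype.ext (hcon (y : G) ⟨y, hy, rfl⟩)
    exact Q.ne_bot_of_dvd_card hdvd h6
  obtain ⟨s, hs, hs1⟩ := hQ1
  -- the normalizer of `Q`
  have hnorm : ∀ y ∈ Subgroup.normalizer (((Q : Subgroup N).map N.subtype : Subgroup G) : Set G),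
      a⁻¹ * y * a ∈ H := by
    intro y hy
    have h6 : y * s * y⁻¹ ∈ (Q : Subgroup N).map N.subtype := (Subgroup.mem_normalizer_iff.1 hy s).1 hs
    apply S.ti (hRa s hs)
    · intro h
      apply hs1
      calc s = a * (a⁻¹ * s * a) * a⁻¹ := by group
        _ = 1 := by rw [h]; group
    · have h7 := hRa _ h6
      have h8 : a⁻¹ * y * a * (a⁻¹ * s * a) * (a⁻¹ * y * a)⁻¹ = a⁻¹ * (y * s * y⁻¹) * a := by group
      rw [h8]
      exact h7
  have htop : a * g * a⁻¹ ∈ Subgroup.normalizer (((Q : Subgroup N).map N.subtype : Subgroup G) : Set G) ⊔ N := by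
    rw [Sylow.normalizer_sup_eq_top]
    trivial
  rw [Subgroup.mem_sup_of_normal_right] at htop
  obtain ⟨y, hy, n, hn, hyn⟩ := htop
  refine ⟨(a⁻¹ * y * a) * (a⁻¹ * n * a) * (a⁻¹ * y * a)⁻¹, ?_, a⁻¹ * y * a, hnorm y hy, ?_⟩
  · apply hN.conj_mem
    have := hN.conj_mem n hn a⁻¹
    rwa [inv_inv] at this
  · calc (a⁻¹ * y * a) * (a⁻¹ * n * a) * (a⁻¹ * y * a)⁻¹ * (a⁻¹ * y * a) = a⁻¹ * (y * n) * a := by group
      _ = g := by rw [hyn]; group

/-- the normal subgroup of index at most 2 with intersection `T⟨v_i⟩` -/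
theorem exists_index_two [Finite G] (i : Fin 3) : ∃ M : Subgroup G, M.Normal ∧
    ∀ y : H, (y : G) ∈ M ↔ sign (cmp E i y) = 1 := by
  obtain ⟨N, hN, hNt, hz⟩ := exists_normal H E S.fus i
  have hzz : cmp E i (zz E i) = 1 ∧ sign (cmp E (i + 1) (zz E i)) = -1 := by
    rw [cmp_apply, cmp_apply, zz, MulEquiv.apply_symm_apply]
    exact zf_facts i
  -- the kernel of the `i`-component
  have hk1 : ∀ y : H, cmp E i y = 1 → sign (cmp E (i + 1) y) = -1 → (y : G) ∈ N := by
    intro y h1 h2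
    obtain ⟨g, hg, hgx⟩ := conj_zf (E y).2 h1 h2
    have h3 : E.symm ⟨g, hg⟩ * y * (E.symm ⟨g, hg⟩)⁻¹ = zz E i := by
      apply E.injective
      rw [map_mul, map_mul, map_inv, MulEquiv.apply_symm_apply, zz, MulEquiv.apply_symm_apply]
      exact Subtype.ext hgx
    have h4 : (y : G) = (E.symm ⟨g, hg⟩ : G)⁻¹ * zg E i * ((E.symm ⟨g, hg⟩ : G)⁻¹)⁻¹ := by
      rw [zg, ← h3]
      push_cast
      group
    rw [h4]
    exact hN.conj_mem _ hz _
  have hk : ∀ y : H, cmp E i y = 1 → (y : G) ∈ N := by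
    intro y h1
    rcases Int.units_eq_one_or (sign (cmp E (i + 1) y)) with h2 | h2
    · have h3 := hk1 (y * zz E i) (by rw [map_mul, h1, hzz.1, mul_one])
        (by rw [map_mul, map_mul, h2, hzz.2, one_mul])
      exact (Subgroup.mul_mem_cancel_right N hz).1 h3
    · exact hk1 y h1 h2
  -- a nontrivial element of `T ∩ N`
  obtain ⟨x, hxT, hx1, hxN⟩ : ∃ x : G, x ∈ T ∧ x ≠ 1 ∧ x ∈ N := by
    let f : K := ⟨tri i 1 c3 1, tri_mem i _ _ _ (by decide)⟩
    have e : ∀ j, cmp E j (E.symm f) = tri i 1 c3 1 j := by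
      intro j
      rw [cmp_apply, MulEquiv.apply_symm_apply]
    refine ⟨((E.symm f : H) : G), ?_, ?_, ?_⟩
    · apply S.mem_of_sign
      intro j
      rw [e]
      exact tri_facts i j
    · intro h
      have h1 : E.symm f = 1 := Subtype.ext h
      have h2 := e (i + 1)
      rw [h1, map_one] at h2
      have h3 : ∀ i : Fin 3, (1 : Perm (Fin 3)) ≠ tri i 1 c3 1 (i + 1) := by decide
      exact h3 i h2
    · apply hk
      rw [e]
      simp [tri]
  have hsup := S.sup_eq_top N hxT hx1 hxN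
  -- `N ∩ H` consists of elements with even `i`-component
  have hev : ∀ y : H, (y : G) ∈ N → sign (cmp E i y) = 1 := by
    intro y hy
    rcases Int.units_eq_one_or (sign (cmp E i y)) with h | h
    · exact h
    · exfalso
      have h1 : ∀ h' : H, sign (cmp E i h') = -1 → (h' : G) ∈ N := by
        intro h' hh'
        obtain ⟨g, hg⟩ := conj_odd _ _ h hh'
        obtain ⟨g', rfl⟩ := cmp_surjective (E := E) i g
        have h2 : cmp E i (h' * (g' * y * g'⁻¹)⁻¹) = 1 := by
          rw [map_mul, map_inv, map_mul, map_mul, map_inv, hg, mul_inv_cancel]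
        have h3 := hk _ h2
        have h4 : (h' : G) = ((h' * (g' * y * g'⁻¹)⁻¹ : H) : G) * ((g' : G) * y * (g' : G)⁻¹) := by
          push_cast
          group
        rw [h4]
        exact N.mul_mem h3 (hN.conj_mem _ hy _)
      have h2 : ∀ h' : H, (h' : G) ∈ N := by
        intro h'
        rcases Int.units_eq_one_or (sign (cmp E i h')) with h3 | h3
        · have h4 := h1 (h' * y) (by rw [map_mul, map_mul, h3, h, one_mul])
          exact (Subgroup.mul_mem_cancel_right N hy).1 h4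
        · exact h1 h' h3
      apply hNt
      rw [eq_top_iff]
      intro g _
      obtain ⟨n, hn, h', hh', rfl⟩ := hsup g
      exact N.mul_mem hn (h2 ⟨h', hh'⟩)
  -- the subgroup
  let L : Subgroup G := ((MonoidHom.ker (sign.comp (cmp E i))).map H.subtype)
  have hL : ∀ y : H, (y : G) ∈ L ↔ sign (cmp E i y) = 1 := by
    intro y
    constructor
    · rintro ⟨y', hy', h⟩
      have : y' = y := Subtype.ext h
      rw [← this]
      exact hy'
    · intro h
      exact ⟨y, h, rfl⟩
  have hLH : L ≤ H := by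
    rintro _ ⟨y, -, rfl⟩
    exact y.2
  refine ⟨N ⊔ L, ⟨?_⟩, ?_⟩
  · intro m hm g
    rw [Subgroup.mem_sup_of_normal_left] at hm
    obtain ⟨n, hn, l, hl, rfl⟩ := hm
    obtain ⟨n', hn', h', hh', rfl⟩ := hsup g
    have h1 : h' * l * h'⁻¹ ∈ L := by
      have h2 := (hL ⟨l, hLH hl⟩).1 hl
      have h3 := (hL (⟨h', hh'⟩ * ⟨l, hLH hl⟩ * ⟨h', hh'⟩⁻¹)).2 (by
        rw [map_mul, map_mul, map_inv, map_mul, map_mul, map_inv, h2]
        rcases Int.units_eq_one_or (sign (cmp E i ⟨h', hh'⟩)) with h | h <;> rw [h] <;> decide)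
      exact h3
    have h4 : n' * h' * (n * l) * (n' * h')⁻¹ =
        (n' * h' * n * (n' * h')⁻¹) * (n' * (h' * l * h'⁻¹) * n'⁻¹) := by group
    rw [h4]
    have h5 : n' ∈ N ⊔ L := Subgroup.mem_sup_left hn'
    exact mul_mem (Subgroup.mem_sup_left (hN.conj_mem n hn _))
      (mul_mem (mul_mem h5 (Subgroup.mem_sup_right h1)) (inv_mem h5))
  · intro y
    rw [Subgroup.mem_sup_of_normal_left]
    constructor
    · rintro ⟨n, hn, l, hl, hnl⟩
      have h1 : n = (y : G) * l⁻¹ := by rw [← hnl]; group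
      have h2 := hev (y * ⟨l, hLH hl⟩⁻¹) (by
        show (y : G) * l⁻¹ ∈ N
        rw [← h1]; exact hn)
      have h3 := (hL ⟨l, hLH hl⟩).1 hl
      rw [map_mul, map_mul, map_inv, map_inv, h3, inv_one, mul_one] at h2
      exact h2
    · intro h
      exact ⟨1, N.one_mem, y, (hL y).2 h, one_mul _⟩

/-- **Theorem.** -/
theorem eq_top [Finite G] : H = ⊤ := by
  have h3 : Fact (Nat.Prime 3) := ⟨Nat.prime_three⟩
  obtain ⟨M₀, hM₀, hM₀'⟩ := S.exists_index_two 0
  obtain ⟨M₁, hM₁, hM₁'⟩ := S.exists_index_two 1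
  let W : Subgroup G := M₀ ⊓ M₁
  have hW : W.Normal := Subgroup.normal_inf_normal M₀ M₁
  have hWH : ∀ y : G, y ∈ H → (y ∈ W ↔ y ∈ T) := by
    intro y hy
    have h1 := hM₀' ⟨y, hy⟩
    have h2 := hM₁' ⟨y, hy⟩
    have h4 := sign_cmp E ⟨y, hy⟩
    have h5 := S.mem_iff (y := ⟨y, hy⟩)
    constructor
    · intro h
      apply h5.2
      have e1 := h1.1 h.1
      have e2 := h2.1 h.2
      rw [e1, e2, one_mul, one_mul] at h4
      intro i
      fin_cases i
      · exact e1
      · exact e2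
      · exact h4
    · intro h
      exact ⟨h1.2 (h5.1 h 0), h2.2 (h5.1 h 1)⟩
  have hTW : T ≤ W := fun t ht => (hWH t (S.le ht)).2 ht
  -- `T` is a Sylow subgroup of `W`
  obtain ⟨P, hP⟩ := S.exists_sylow
  have hPW : (P : Subgroup G) ≤ W := by rw [hP]; exact hTW
  let Q : Sylow 3 W := P.subtype hPW
  have hQ : (Q : Subgroup W) = T.subgroupOf W := by
    rw [← hP]; rfl
  have hQm : ∀ w : W, w ∈ (Q : Subgroup W) ↔ (w : G) ∈ T := by
    intro w
    rw [hQ, Subgroup.mem_subgroupOf]
  have hnc : Subgroup.normalizer (Q : Set W) ≤ Subgroup.centralizer (Q : Set W) := by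
    intro w hw
    have h4 : (w : G) ∈ H := by
      rw [← S.nor]
      apply Subgroup.mem_normalizer_fintype
      intro t ht
      have h5 := (Subgroup.mem_normalizer_iff.1 hw ⟨t, hTW ht⟩).1 ((hQm ⟨t, hTW ht⟩).2 ht)
      exact (hQm _).1 h5
    have h5 : (w : G) ∈ T := (hWH _ h4).1 w.2
    rw [Subgroup.mem_centralizer_iff]
    intro t ht
    exact Subtype.ext (S.comm ((hQm t).1 ht) h5)
  have hcompl := MonoidHom.ker_transferSylow_isComplement' Q hnc
  set U : Subgroup W := (MonoidHom.transferSylow Q hnc).ker with hU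
  have hU3 : ¬ 3 ∣ Nat.card U := MonoidHom.not_dvd_card_ker_transferSylow Q hnc
  -- `U` is trivial
  have hUbot : U.map W.subtype = ⊥ := by
    have hTab : IsMulCommutative T := ⟨⟨fun a b => Subtype.ext (S.comm a.2 b.2)⟩⟩
    have hncyc : ¬ IsCyclic T := by
      intro hc
      obtain ⟨g, hg⟩ := hc.exists_generator
      have h5 : Nat.card T = orderOf g := by
        rw [← Nat.card_zpowers, (Subgroup.eq_top_iff' _).2 hg, Subgroup.card_top]
      have h6 : g ^ 3 = 1 := Subtype.ext (S.cube g.2)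
      have h7 := orderOf_dvd_of_pow_eq_one h6
      rw [← h5, S.card] at h7
      exact absurd h7 (by decide)
    have hTn : T ≤ Subgroup.normalizer ((U.map W.subtype : Subgroup G) : Set G) := by
      intro t ht
      apply Subgroup.mem_normalizer_fintype
      rintro _ ⟨u, hu, rfl⟩
      refine ⟨⟨t, hTW ht⟩ * u * ⟨t, hTW ht⟩⁻¹, ?_, rfl⟩
      exact (MonoidHom.normal_ker _).conj_mem u hu _
    have hcU : Nat.card (U.map W.subtype) = Nat.card U :=
      (Nat.card_congr (U.equivMapOfInjective W.subtype W.subtype_injective).toEquiv).symm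
    have hcop : (Nat.card T).Coprime (Nat.card (U.map W.subtype)) := by
      rw [S.card, hcU]
      exact Nat.Coprime.pow_left 3 ((Nat.Prime.coprime_iff_not_dvd Nat.prime_three).2 hU3)
    rw [← Cfsg.Agent.S0058.result T (U.map W.subtype) hncyc hTn hcop, eq_bot_iff]
    refine iSup₂_le fun t ht => ?_
    rintro y ⟨⟨u, hu, rfl⟩, hy2⟩
    have h5 : (u : G) ∈ H := S.cen t ht.1 ht.2 hy2
    have h6 : (u : G) ∈ T := (hWH _ h5).1 u.2
    have h7 : u ∈ U ⊓ (Q : Subgroup W) := ⟨hu, (hQm u).2 h6⟩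
    rw [hcompl.disjoint.eq_bot] at h7
    rw [Subgroup.mem_bot] at h7 ⊢
    rw [h7]
    rfl
  have hWT : W = T := by
    apply le_antisymm _ hTW
    intro w hw
    have h5 : (⟨w, hw⟩ : W) ∈ U ⊔ (Q : Subgroup W) := by
      rw [hcompl.sup_eq_top]; trivial
    have hUn : U.Normal := MonoidHom.normal_ker _
    rw [Subgroup.mem_sup_of_normal_left] at h5
    obtain ⟨u, hu, q, hq, huq⟩ := h5
    have h6 : (u : G) ∈ U.map W.subtype := ⟨u, hu, rfl⟩
    rw [hUbot, Subgroup.mem_bot] at h6
    have h7 : (u : G) * q = w := congrArg Subtype.val huq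
    rw [h6, one_mul] at h7
    rw [← h7]
    exact (hQm q).1 hq
  rw [← S.nor, ← hWT]
  exact Subgroup.normalizer_eq_top_iff.2 hW

end Sit

end

end Cfsg.Agent.H431.Block
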