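import Mathlib
import Cfsg.Agent.Classification.PSLTwoTriple

/-!
# Orders of the elements of `PSL(2, q)`

`pow_cases`: for `q = |F|` of characteristic `p`, `q - 1 = d k₁`, `q + 1 = d k₂` with `d = 2`
(`d = 1` is also allowed), every element `x` of `PSL(2, F)` satisfies `x ^ p = 1`, `x ^ k₁ = 1` or
`x ^ k₂ = 1`.
-/

set_option autoImplicit false

namespace Cfsg.Agent.H431.PSLTwoSpec

open Matrix Polynomial Cfsg.Agent.Classification.PSLTwoTriple

variable {F : Type*} [Field F] [Fintype F]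

/-- distinct roots: if `t ≠ t⁻¹` are the eigenvalues of `A`, then `A ^ k` is scalar as soon as
`t ^ k = t⁻¹ ^ k` -/
theorem pow_mem_center {t : F} (ht : t ≠ 0) (hne : t ≠ t⁻¹) (A : SpecialLinearGroup (Fin 2) F)
    (hA : A.1 0 0 + A.1 1 1 = t + t⁻¹) {k : ℕ} {c : F} (h1 : t ^ k = c) (h2 : t⁻¹ ^ k = c)
    (hc : c ^ 2 = 1) :
    (A ^ k).1 = c • (1 : Matrix (Fin 2) (Fin 2) F) ∧
      A ^ k ∈ Subgroup.center (SpecialLinearGroup (Fin 2) F) := by
  have hq : quad (t + t⁻¹) = (X - C t) * (X - C t⁻¹) := by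
    unfold quad
    have : C t * C t⁻¹ = (1 : F[X]) := by rw [← C_mul, mul_inv_cancel₀ ht, C_1]
    rw [C_add]
    linear_combination (-1 : F[X]) * this
  have hcop : IsCoprime (X - C t) (X - C t⁻¹ : F[X]) := by
    refine Polynomial.isCoprime_X_sub_C_of_isUnit_sub ?_
    rw [isUnit_iff_ne_zero, sub_ne_zero]
    exact hne
  have hd1 : (X - C t) ∣ (X ^ k - C c : F[X]) := by
    rw [dvd_iff_isRoot]
    simp [h1]
  have hd2 : (X - C t⁻¹) ∣ (X ^ k - C c : F[X]) := by
    rw [dvd_iff_isRoot]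
    simp only [IsRoot.def, eval_sub, eval_pow, eval_X, eval_C]
    rw [h2, sub_self]
  obtain ⟨g, hg⟩ := hcop.mul_dvd hd1 hd2
  rw [← hq] at hg
  have h3 := congrArg (aeval A.1) hg
  rw [map_mul, aeval_quad A hA, zero_mul, map_sub, map_pow, aeval_X, aeval_C, sub_eq_zero] at h3
  have h4 : (A ^ k).1 = c • (1 : Matrix (Fin 2) (Fin 2) F) := by
    have h2' : (A ^ k).1 = A.1 ^ k := Matrix.SpecialLinearGroup.coe_pow A _
    rw [h2', h3, Algebra.algebraMap_eq_smul_one]
  exact ⟨h4, mem_center_of_eq hc h4⟩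

/-- unipotent up to sign -/
theorem pow_char_mem_center {p : ℕ} [Fact p.Prime] [CharP F p] {t : F} (ht : t * t = 1)
    (A : SpecialLinearGroup (Fin 2) F) (hA : A.1 0 0 + A.1 1 1 = t + t) :
    A ^ p ∈ Subgroup.center (SpecialLinearGroup (Fin 2) F) := by
  have hq : quad (t + t) = (X - C t) ^ 2 := by
    unfold quad
    have : C t * C t = (1 : F[X]) := by rw [← C_mul, ht, C_1]
    rw [C_add]
    linear_combination (-1 : F[X]) * this
  have hd : (X - C t) ^ 2 ∣ (X ^ p - C (t ^ p) : F[X]) := by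
    have h1 : (X ^ p - C (t ^ p) : F[X]) = (X - C t) ^ p := by
      rw [C_pow, sub_pow_char]
    rw [h1]
    exact pow_dvd_pow _ (Fact.out : p.Prime).two_le
  obtain ⟨g, hg⟩ := hd
  rw [← hq] at hg
  have h3 := congrArg (aeval A.1) hg
  rw [map_mul, aeval_quad A hA, zero_mul, map_sub, map_pow, aeval_X, aeval_C, sub_eq_zero] at h3
  apply mem_center_of_eq (r := t ^ p)
  · rw [← pow_mul, mul_comm, pow_mul, pow_two, ht, one_pow]
  · have h2' : (A ^ p).1 = A.1 ^ p := Matrix.SpecialLinearGroup.coe_pow A _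
    rw [h2', h3, Algebra.algebraMap_eq_smul_one]

theorem sl_pow_cases {p : ℕ} [Fact p.Prime] [CharP F p] {d k₁ k₂ : ℕ} (hd : d = 1 ∨ d = 2)
    (h1 : Fintype.card F - 1 = d * k₁) (h2 : Fintype.card F + 1 = d * k₂)
    (A : SpecialLinearGroup (Fin 2) F) :
    A ^ p ∈ Subgroup.center (SpecialLinearGroup (Fin 2) F) ∨
      A ^ k₁ ∈ Subgroup.center (SpecialLinearGroup (Fin 2) F) ∨
      A ^ k₂ ∈ Subgroup.center (SpecialLinearGroup (Fin 2) F) := by
  by_cases hirr : ∀ x : F, x ^ 2 - (A.1 0 0 + A.1 1 1) * x + 1 ≠ 0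
  · right; right
    rcases hd with rfl | rfl
    · rw [one_mul] at h2
      rw [← h2, pow_card_add_one hirr A rfl]
      exact Subgroup.one_mem _
    · exact pow_half hirr A rfl k₂ h2
  · push Not at hirr
    obtain ⟨t, ht⟩ := hirr
    have ht0 : t ≠ 0 := by
      rintro rfl
      simp at ht
    have htr : A.1 0 0 + A.1 1 1 = t + t⁻¹ := by
      field_simp
      linear_combination -ht
    by_cases hne : t = t⁻¹
    · left
      refine pow_char_mem_center (t := t) ?_ A ?_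
      · nth_rw 2 [hne]
        exact mul_inv_cancel₀ ht0
      · rw [htr, ← hne]
    · right; left
      have hq1 : t ^ (Fintype.card F - 1) = 1 := FiniteField.pow_card_sub_one_eq_one t ht0
      have hd2 : (t ^ k₁) ^ 2 = 1 := by
        rcases hd with rfl | rfl
        · rw [one_mul] at h1
          rw [← h1, hq1, one_pow]
        · rw [← pow_mul, mul_comm, ← h1, hq1]
      refine (pow_mem_center ht0 hne A htr rfl ?_ hd2).2
      rw [inv_pow]
      have : t ^ k₁ * t ^ k₁ = 1 := by rw [← pow_two, hd2]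
      exact inv_eq_of_mul_eq_one_left this

/-- **Orders of the elements of `PSL(2, q)`.** -/
theorem pow_cases {p : ℕ} [Fact p.Prime] [CharP F p] {d k₁ k₂ : ℕ} (hd : d = 1 ∨ d = 2)
    (h1 : Fintype.card F - 1 = d * k₁) (h2 : Fintype.card F + 1 = d * k₂)
    (x : ProjectiveSpecialLinearGroup (Fin 2) F) : x ^ p = 1 ∨ x ^ k₁ = 1 ∨ x ^ k₂ = 1 := by
  obtain ⟨A, rfl⟩ := QuotientGroup.mk_surjective x
  simp only [← QuotientGroup.mk_pow, QuotientGroup.eq_one_iff]
  exact sl_pow_cases hd h1 h2 A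

/-- The order of an element of `PSL(2, q)` divides `p`, `(q-1)/d` or `(q+1)/d`. -/
theorem orderOf_cases {p : ℕ} [Fact p.Prime] [CharP F p] {d k₁ k₂ : ℕ} (hd : d = 1 ∨ d = 2)
    (h1 : Fintype.card F - 1 = d * k₁) (h2 : Fintype.card F + 1 = d * k₂)
    (x : ProjectiveSpecialLinearGroup (Fin 2) F) :
    orderOf x ∣ p ∨ orderOf x ∣ k₁ ∨ orderOf x ∣ k₂ := by
  rcases pow_cases hd h1 h2 x with h | h | h
  · left; exact orderOf_dvd_of_pow_eq_one h
  · right; left; exact orderOf_dvd_of_pow_eq_one h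
  · right; right; exact orderOf_dvd_of_pow_eq_one h

end Cfsg.Agent.H431.PSLTwoSpec
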